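/-
A group with abelian Sylow 2-subgroups does not involve `Qd(r)`, `r` odd.
-/
import Cfsg.Prelude.Def_PLocal
import Mathlib.FieldTheory.Finite.Basic
import Mathlib.LinearAlgebra.Matrix.SpecialLinearGroup
import Mathlib.Tactic.LinearCombination
import Mathlib.Tactic.FinCases

set_option linter.style.haveILetI false
set_option linter.unusedSectionVars false

namespace Cfsg.Lib.AbQSq

open Subgroup Matrix

universe u

/-- `Qd(r)` has a noncommutative `2`-subgroup -/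
theorem qd_nonabelian_two (r : ℕ) [hr : Fact r.Prime] (h2 : r ≠ 2) :
    ∃ Q : Subgroup (Cfsg.qd r), IsPGroup 2 Q ∧ ∃ a ∈ Q, ∃ b ∈ Q, a * b ≠ b * a := by
  obtain ⟨s, t, hst⟩ := ZMod.sq_add_sq r (-1)
  have h20 : (2 : ZMod r) ≠ 0 := by
    intro h
    have h' : ((2 : ℕ) : ZMod r) = 0 := by simpa using h
    rw [ZMod.natCast_eq_zero_iff] at h'
    exact h2 ((Nat.prime_dvd_prime_iff_eq hr.out Nat.prime_two).mp h')
  let w : SpecialLinearGroup (Fin 3) (ZMod r) :=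
    ⟨!![0, 1, 0; -1, 0, 0; 0, 0, 1], by simp [Matrix.det_fin_three]⟩
  let x : SpecialLinearGroup (Fin 3) (ZMod r) :=
    ⟨!![s, t, 0; t, -s, 0; 0, 0, 1], by
      simp only [Matrix.det_fin_three]
      simp
      linear_combination -hst⟩
  have hw : w ∈ Cfsg.qd r := subset_closure ⟨by simp [w], by simp [w], by simp [w]⟩
  have hx : x ∈ Cfsg.qd r := subset_closure ⟨by simp [x], by simp [x], by simp [x]⟩
  have hw4 : w ^ 4 = 1 := by
    apply Subtype.ext
    show (w : Matrix (Fin 3) (Fin 3) (ZMod r)) ^ 4 = 1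
    ext i j
    fin_cases i <;> fin_cases j <;> simp [w, pow_succ, Matrix.mul_apply, Fin.sum_univ_three]
  have hx2 : (x : Matrix (Fin 3) (Fin 3) (ZMod r)) * (x : Matrix (Fin 3) (Fin 3) (ZMod r))
      = !![-1, 0, 0; 0, -1, 0; 0, 0, 1] := by
    ext i j
    fin_cases i <;> fin_cases j <;> simp [x, Matrix.mul_apply, Fin.sum_univ_three] <;>
      first | linear_combination hst | linear_combination -hst | ring
  have hx4 : x ^ 4 = 1 := by
    apply Subtype.ext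
    show (x : Matrix (Fin 3) (Fin 3) (ZMod r)) ^ 4 = 1
    rw [show (4 : ℕ) = 2 * 2 from rfl, pow_mul, pow_two (x : Matrix (Fin 3) (Fin 3) (ZMod r)), hx2,
      pow_two]
    ext i j
    fin_cases i <;> fin_cases j <;> simp [Matrix.mul_apply, Fin.sum_univ_three]
  have hxw : x * w * x⁻¹ = w⁻¹ := by
    rw [mul_inv_eq_iff_eq_mul, eq_inv_mul_iff_mul_eq]
    apply Subtype.ext
    show (w : Matrix (Fin 3) (Fin 3) (ZMod r)) * ((x : Matrix (Fin 3) (Fin 3) (ZMod r)) * w) = x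
    ext i j
    fin_cases i <;> fin_cases j <;> simp [w, x, Matrix.mul_apply, Fin.sum_univ_three]
  set W : Subgroup (Cfsg.qd r) := zpowers ⟨w, hw⟩
  set Xs : Subgroup (Cfsg.qd r) := zpowers ⟨x, hx⟩
  have hpW : IsPGroup 2 W := by
    obtain ⟨k, -, hk⟩ := (Nat.dvd_prime_pow Nat.prime_two).mp
      (orderOf_dvd_of_pow_eq_one (n := 2 ^ 2) (x := (⟨w, hw⟩ : Cfsg.qd r)) (Subtype.ext hw4))
    exact IsPGroup.of_card (n := k) (by rw [Nat.card_zpowers, hk])
  have hpX : IsPGroup 2 Xs := by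
    obtain ⟨k, -, hk⟩ := (Nat.dvd_prime_pow Nat.prime_two).mp
      (orderOf_dvd_of_pow_eq_one (n := 2 ^ 2) (x := (⟨x, hx⟩ : Cfsg.qd r)) (Subtype.ext hx4))
    exact IsPGroup.of_card (n := k) (by rw [Nat.card_zpowers, hk])
  have hn : Xs ≤ normalizer (W : Set (Cfsg.qd r)) := by
    refine zpowers_le.mpr (mem_normalizer_iff_conj_image_eq.mpr ?_)
    have h1 : W.map (MulAut.conj (⟨x, hx⟩ : Cfsg.qd r)).toMonoidHom = W := by
      rw [MonoidHom.map_zpowers,
        show (MulAut.conj (⟨x, hx⟩ : Cfsg.qd r)).toMonoidHom ⟨w, hw⟩ = (⟨w, hw⟩ : Cfsg.qd r)⁻¹ from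
          Subtype.ext hxw, zpowers_inv]
    exact congrArg SetLike.coe h1
  refine ⟨W ⊔ Xs, hpW.to_sup_of_normal_left' hpX hn, ⟨w, hw⟩, mem_sup_left (mem_zpowers _), ⟨x, hx⟩,
    mem_sup_right (mem_zpowers _), fun e => ?_⟩
  have h1 : (w * x : SpecialLinearGroup (Fin 3) (ZMod r)) = x * w := congrArg Subtype.val e
  have hm : (w : Matrix (Fin 3) (Fin 3) (ZMod r)) * (x : Matrix (Fin 3) (Fin 3) (ZMod r))
      = (x : Matrix (Fin 3) (Fin 3) (ZMod r)) * (w : Matrix (Fin 3) (Fin 3) (ZMod r)) :=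
    congrArg Subtype.val h1
  have h00 := congrFun (congrFun hm 0) 0
  have h01 := congrFun (congrFun hm 0) 1
  simp [w, x, Matrix.mul_apply, Fin.sum_univ_three] at h00 h01
  have hs : s = 0 := by
    have : (2 : ZMod r) * s = 0 := by linear_combination -h01
    simpa [h20] using this
  have ht : t = 0 := by
    have : (2 : ZMod r) * t = 0 := by linear_combination h00
    simpa [h20] using this
  rw [hs, ht] at hst
  simp at hst

/-- abelian Sylow 2-subgroups exclude `Qd(r)` as a section -/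
theorem qd_free_of_abelian_two {Y : Type u} [Group Y] [Finite Y] {r : ℕ} [Fact r.Prime] (h2 : r ≠ 2)
    (hab : ∀ S : Sylow 2 Y, ∀ x ∈ S, ∀ y ∈ S, x * y = y * x) :
    ¬ ∃ (K R : Subgroup Y) (hR : (R.subgroupOf K).Normal),
      Nonempty ((K ⧸ R.subgroupOf K) ≃* ↥(Cfsg.qd r)) := by
  rintro ⟨K, R, hR, ⟨e⟩⟩
  haveI := hR
  obtain ⟨Q, hQ, a, ha, b, hb, hne⟩ := qd_nonabelian_two r h2
  let π : K →* Cfsg.qd r := e.toMonoidHom.comp (QuotientGroup.mk' _)
  have hπ : Function.Surjective π := e.surjective.comp (QuotientGroup.mk'_surjective _)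
  obtain ⟨T, hT⟩ := hQ.exists_le_sylow
  obtain ⟨T0, hT0⟩ := Sylow.mapSurjective_surjective hπ 2 T
  obtain ⟨x, hx, rfl⟩ := (hT0 ▸ hT ha : a ∈ (T0.mapSurjective hπ : Subgroup (Cfsg.qd r)))
  obtain ⟨y, hy, rfl⟩ := (hT0 ▸ hT hb : b ∈ (T0.mapSurjective hπ : Subgroup (Cfsg.qd r)))
  obtain ⟨S, hS⟩ := (T0.2.map K.subtype).exists_le_sylow
  have hxy : x * y = y * x := Subtype.ext (hab S _ (hS ⟨x, hx, rfl⟩) _ (hS ⟨y, hy, rfl⟩))
  exact hne (by rw [← map_mul, ← map_mul, hxy])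

end Cfsg.Lib.AbQSq
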