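/-
All lines but one have nontrivial centralisers on a Sylow subgroup.
-/
import Cfsg.Agent.Coprime.AbelianQSq.Setup
import Cfsg.Agent.Components.PComponents
import Cfsg.Agent.Transfer.Basic
import Cfsg.Agent.SolvStruct.GlaubermanThompson

set_option linter.style.haveILetI false
set_option linter.unusedSectionVars false

namespace Cfsg.Lib.AbQSq

open Subgroup Cfsg.Lib.Coprime Cfsg.Lib.Components
open scoped commutatorElement

universe u

instance pPrimePCore_char' {G : Type u} [Group G] (p : ℕ) :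
    (Cfsg.pPrimePCore p G).Characteristic :=
  haveI : (Cfsg.pPrimeCore p G).Characteristic := Cfsg.Lib.Components.pPrimeCore_characteristic
  haveI : (Cfsg.pCore p (G ⧸ Cfsg.pPrimeCore p G)).Characteristic :=
    Cfsg.Lib.Components.pCore_characteristic
  Characteristic.comap_quotient_mk inferInstance

/-- if a Hall `p'`-subgroup of `N(S)` centralises a Sylow subgroup `S` of `O_{p',p}(G)`, then `G`
has a normal `p`-complement -/
theorem hasNPC_of_centralised {G : Type u} [Group G] [Finite G] [Group.IsSolvable G] {r : ℕ}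
    [Fact r.Prime] {S J : Subgroup G} (hS : IsPGroup r S) (hSY : S ≤ Cfsg.pPrimePCore r G)
    (hSi : ¬ r ∣ S.relIndex (Cfsg.pPrimePCore r G))
    (hJ : Cfsg.IsPiHallOf {t | t ≠ r} J (normalizer (S : Set G)))
    (hcent : J ≤ centralizer (S : Set G)) : Cfsg.HasNormalPComplement r G := by
  set O := Cfsg.pPrimeCore r G
  set π := QuotientGroup.mk' O
  have hπ : Function.Surjective π := QuotientGroup.mk'_surjective O
  set C := Cfsg.pCore r (G ⧸ O)
  have hC : IsPGroup r C := Cfsg.Lib.Components.isPGroup_pCore r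
  have hmapY : (Cfsg.pPrimePCore r G).map π = C := map_comap_eq_self_of_surjective hπ _
  have hSC : S.map π = C := by
    refine le_antisymm ((Subgroup.map_mono hSY).trans hmapY.le) (relIndex_eq_one.mp ?_)
    have h1 : (S.map π).relIndex C ∣ S.relIndex (Cfsg.pPrimePCore r G) := by
      rw [← hmapY, relIndex_map_map, QuotientGroup.ker_mk']
      exact relIndex_dvd_of_le_left _ le_sup_left |>.trans
        (by rw [sup_eq_left.mpr (show O ≤ Cfsg.pPrimePCore r G from QuotientGroup.le_comap_mk' O C)])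
    by_contra hne
    obtain ⟨k, hk⟩ := IsPGroup.iff_card.mp hC
    obtain ⟨j, -, hj⟩ := (Nat.dvd_prime_pow (Fact.out : r.Prime)).mp
      (hk ▸ relIndex_dvd_card (S.map π) C)
    exact hSi (dvd_trans (hj ▸ dvd_pow_self r (fun e => hne (by rw [hj, e, pow_zero]))) h1)
  have hJC : J.map π ≤ C := by
    refine le_trans ?_ (Cfsg.Lib.Coprime.centralizer_pCore_le r
      Cfsg.Lib.Coprime.pPrimeCore_quotient_eq_bot)
    show J.map π ≤ centralizer (C : Set (G ⧸ O))
    rw [← hSC]
    rintro _ ⟨j, hj, rfl⟩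
    refine mem_centralizer_iff.mpr ?_
    rintro _ ⟨s, hs, rfl⟩
    rw [← map_mul, ← map_mul, mem_centralizer_iff.mp (hcent hj) s hs]
  have hJbot : J.map π = ⊥ := by
    refine eq_bot_of_card_eq _ (Nat.eq_one_iff_not_exists_prime_dvd.mpr fun t ht htd => ?_)
    obtain ⟨k, hk⟩ := IsPGroup.iff_card.mp hC
    have h1 : t = r := (Nat.prime_dvd_prime_iff_eq ht Fact.out).mp
      (ht.dvd_of_dvd_pow (hk ▸ htd.trans (Subgroup.card_dvd_of_le hJC)))
    exact hJ.2.1 t ht (htd.trans (Subgroup.card_map_dvd J π)) h1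
  set N := normalizer (S : Set G)
  have hN : IsPGroup r (N.map π) := by
    refine IsPGroup.of_card (Nat.eq_prime_pow_of_unique_prime_dvd Nat.card_pos.ne'
      fun {t} ht htd => ?_)
    by_contra hne
    have h1 : Nat.card (N.map π) ∣ J.relIndex N := by
      rw [← Subgroup.relIndex_ker N π]
      exact relIndex_dvd_of_le_left N ((Subgroup.map_eq_bot_iff J).mp hJbot)
    exact hJ.2.2 t ht hne (htd.trans h1)
  have htop : IsPGroup r (G ⧸ O) := by
    have h1 : N.map π = ⊤ := by
      rw [eq_top_iff, ← Subgroup.map_top_of_surjective π hπ]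
      let P : Sylow r (Cfsg.pPrimePCore r G) :=
        (hS.comap_subtype (K := Cfsg.pPrimePCore r G)).toSylow hSi
      have hF := Sylow.normalizer_sup_eq_top P
      rw [show (P : Subgroup (Cfsg.pPrimePCore r G)).map (Cfsg.pPrimePCore r G).subtype = S from
        map_subgroupOf_eq_of_le hSY] at hF
      rw [← hF, Subgroup.map_sup]
      exact sup_le le_rfl (hmapY.le.trans (hSC.ge.trans (Subgroup.map_mono le_normalizer)))
    exact hN.of_equiv ((MulEquiv.subgroupCongr h1).trans topEquiv)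
  obtain ⟨k, hk⟩ := IsPGroup.iff_card.mp htop
  exact Cfsg.Lib.Transfer.hasNormalPComplement_iff.mpr
    ⟨O, inferInstance, Cfsg.Lib.Components.coprime_card_pPrimeCore r, k, hk⟩

namespace Min

variable {X : Type u} [Group X] [Finite X] {A K : Subgroup X} {q : ℕ} (h : Min A K q)
include h

theorem not_hasNPC {r : ℕ} [Fact r.Prime] {R : Subgroup X} (hR : InvSyl A K r R) (hne : R ≠ ⊥) :
    ¬ Cfsg.HasNormalPComplement r K := by
  intro hN
  obtain ⟨N, hNn, hNc, k, hk⟩ := Cfsg.Lib.Transfer.hasNormalPComplement_iff.mp hN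
  haveI := hNn
  haveI : (Cfsg.pPrimeCore r K).Characteristic := Cfsg.Lib.Components.pPrimeCore_characteristic
  rcases h.simple _ (map_subtype_le _)
    (h.hAK.trans (normalizer_le_normalizer_map_char (Cfsg.pPrimeCore r K)))
    (le_normalizer.trans (normalizer_le_normalizer_map_char (Cfsg.pPrimeCore r K))) with h1 | h1
  · have h2 : N = ⊥ := le_bot_iff.mp ((Cfsg.Lib.Components.le_pPrimeCore hNc).trans
      ((Subgroup.map_eq_bot_iff_of_injective _ K.subtype_injective).mp h1).le)
    rw [h2, index_bot] at hk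
    haveI := (IsPGroup.of_card hk).isNilpotent
    exact h.nsol inferInstance
  · have h2 : (Nat.card K).Coprime r := by
      rw [← h1, Subgroup.card_map_of_injective K.subtype_injective]
      exact Cfsg.Lib.Components.coprime_card_pPrimeCore r
    obtain ⟨j, hj⟩ := IsPGroup.iff_card.mp hR.pgroup
    refine hne (eq_bot_of_card_eq _ ?_)
    rw [hj]
    exact Nat.eq_one_of_dvd_coprimes (h2.symm.pow_left j) dvd_rfl (hj ▸ Subgroup.card_dvd_of_le hR.le)

theorem lines_of_moved {r : ℕ} [Fact r.Prime] {R V J : Subgroup X} (hR : InvSyl A K r R)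
    (hVK : V ≤ K) (hV : IsPGroup r V) (hAV : A ≤ normalizer (V : Set X)) (hJK : J ≤ K)
    (hAJ : A ≤ normalizer (J : Set X)) (hJr : ¬ r ∣ Nat.card J) (hJV : J ≤ normalizer (V : Set X))
    (hne : ¬ J ≤ centralizer (V : Set X)) :
    ∃ f ∈ A, f ≠ 1 ∧ ∀ d ∈ A, d ∉ zpowers f → R ⊓ cd d ≠ ⊥ := by
  obtain ⟨f, hf, hf1, hmv⟩ : ∃ f ∈ A, f ≠ 1 ∧ ¬ J ⊓ cd f ≤ centralizer (V : Set X) := by
    by_contra hcon
    push Not at hcon
    exact hne (h.toCfg.le_of_lines hJK hAJ hcon)
  refine ⟨f, hf, hf1, fun d hd hdf e => ?_⟩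
  have hcop : (Nat.card ↥(J ⊓ cd f)).Coprime (Nat.card V) := by
    obtain ⟨k, hk⟩ := IsPGroup.iff_card.mp hV
    rw [hk]
    exact Nat.Coprime.pow_right k (((Fact.out : r.Prime).coprime_iff_not_dvd.mpr fun hd =>
      hJr (hd.trans (Subgroup.card_dvd_of_le inf_le_left))).symm)
  obtain ⟨u, -, huV, hud, hu1, -⟩ := h.exists_moved_comm hVK (inf_le_left.trans hJK) hV hAV
    (h.toCfg.inv_inf_cd hAJ hf) (inf_le_left.trans hJV) hcop hf hf1 inf_le_right hd hdf hmv
  exact hu1 ((eq_bot_iff_forall _).mp e u ⟨hR.max V hVK hV hAV huV, hud⟩)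

theorem lines_odd {r : ℕ} [Fact r.Prime] (hr : r ≠ 2) {R : Subgroup X} (hR : InvSyl A K r R)
    (hne : R ≠ ⊥) : ∃ f ∈ A, f ≠ 1 ∧ ∀ d ∈ A, d ∉ zpowers f → R ⊓ cd d ≠ ⊥ := by
  set Zj := Cfsg.Lib.SolvStruct.zjOf r R
  have hZK : Zj ≤ K := (Cfsg.Lib.SolvStruct.zjOf_le R).trans hR.le
  have hZp : IsPGroup r Zj := hR.pgroup.to_le (Cfsg.Lib.SolvStruct.zjOf_le R)
  haveI := hZp.isNilpotent
  have hAZ : A ≤ normalizer (Zj : Set X) :=
    hR.inv.trans (Cfsg.Lib.SolvStruct.normalizer_le_normalizer_zjOf R)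
  set H := K ⊓ normalizer (Zj : Set X) with hH
  have hAH : A ≤ normalizer (H : Set X) := le_normalizer_inf h.hAK (hAZ.trans le_normalizer)
  haveI hsolH : Group.IsSolvable H := h.solvable_inf_normalizer hZK hAZ
    (Cfsg.Lib.SolvStruct.zjOf_ne_bot hR.pgroup hne) inferInstance
  have hnH : ¬ Cfsg.HasNormalPComplement r H := by
    intro hN
    obtain ⟨S, hS⟩ := hR.syl
    refine h.not_hasNPC hR hne ((Cfsg.Lib.SolvStruct.hasNormalPComplement_iff_zj hr S).mpr ?_)
    have hmap : (Cfsg.Lib.SolvStruct.zjOf r (S : Subgroup K)).map K.subtype = Zj := by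
      rw [Cfsg.Lib.SolvStruct.zjOf_map K.subtype_injective.injOn, hS]
    have h1 : ∀ x ∈ normalizer (Cfsg.Lib.SolvStruct.zjOf r (S : Subgroup K) : Set K),
        (x : X) ∈ H := fun x hx => ⟨x.2, hmap ▸ le_normalizer_map K.subtype ⟨x, hx, rfl⟩⟩
    exact Cfsg.Lib.Transfer.hasNormalPComplement_of_injective
      (MonoidHom.mk' (fun x => (⟨((x : K) : X), h1 x x.2⟩ : H)) fun _ _ => rfl)
      (fun a b e => Subtype.ext (Subtype.ext (congrArg Subtype.val e :))) hN
  set Y := (Cfsg.pPrimePCore r H).map H.subtype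
  have hYH : Y ≤ H := map_subtype_le _
  have hAY : A ≤ normalizer (Y : Set X) :=
    hAH.trans (normalizer_le_normalizer_map_char (Cfsg.pPrimePCore r H))
  obtain ⟨S0, hS0⟩ := exists_invariant_sylow hAY (h.toCfg.copA (hYH.trans inf_le_left))
    (Or.inl h.toCfg.solvableA) r
  set V := (S0 : Subgroup Y).map Y.subtype
  have hVY : V ≤ Y := map_subtype_le _
  have hV : IsPGroup r V := S0.2.map _
  set L := H ⊓ normalizer (V : Set X)
  have hAL : A ≤ normalizer (L : Set X) := le_normalizer_inf hAH (hS0.trans le_normalizer)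
  obtain ⟨J, hJ, hAJ, -⟩ := h.exists_hall (inf_le_left.trans inf_le_left : L ≤ K) hAL
    (isSolvable_of_le inf_le_left hsolH) {t | t ≠ r}
  refine h.lines_of_moved hR (hVY.trans (hYH.trans inf_le_left)) hV hS0
    (hJ.1.trans (inf_le_left.trans inf_le_left)) hAJ
    (fun hd => hJ.2.1 r Fact.out hd rfl) (hJ.1.trans inf_le_right) fun hcent => hnH ?_
  refine hasNPC_of_centralised (S := V.subgroupOf H) (J := J.subgroupOf H) (hV.comap_subtype) ?_ ?_
    ?_ ?_
  · intro x hx
    obtain ⟨y, hy, e⟩ := hVY hx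
    rwa [← (Subtype.ext e : y = x)]
  · have e : (V.subgroupOf H).relIndex (Cfsg.pPrimePCore r H) = V.relIndex Y := by
      show (V.comap H.subtype).relIndex _ = _
      rw [relIndex_comap]
    rw [e]
    show ¬ r ∣ ((S0 : Subgroup Y).map Y.subtype).relIndex Y
    rw [relIndex, subgroupOf, comap_map_eq_self_of_injective Y.subtype_injective]
    exact S0.not_dvd_index
  · have hn : normalizer ((V.subgroupOf H : Subgroup H) : Set H) = L.subgroupOf H := by
      rw [← subgroupOf_normalizer_eq (hVY.trans hYH)]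
      show (normalizer (V : Set X)).subgroupOf H = (H ⊓ normalizer (V : Set X)).subgroupOf H
      rw [inf_comm, inf_subgroupOf_right]
    refine ⟨?_, fun t ht hd => hJ.2.1 t ht ?_, fun t ht hti hd => hJ.2.2 t ht hti ?_⟩
    · rw [hn]; exact fun x hx => hJ.1 hx
    · rwa [Nat.card_congr (subgroupOfEquivOfLe (hJ.1.trans inf_le_left)).toEquiv] at hd
    · rw [hn] at hd
      rwa [relIndex_subgroupOf (inf_le_left : L ≤ H)] at hd
  · intro x hx
    refine mem_centralizer_iff.mpr fun y hy => Subtype.ext ?_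
    exact mem_centralizer_iff.mp (hcent hx) y hy

theorem lines_abelian {p : ℕ} [Fact p.Prime] {P : Subgroup X} (hP : InvSyl A K p P) (hne : P ≠ ⊥)
    (hab : ∀ x ∈ P, ∀ y ∈ P, x * y = y * x) :
    ∃ f ∈ A, f ≠ 1 ∧ ∀ d ∈ A, d ∉ zpowers f → P ⊓ cd d ≠ ⊥ := by
  haveI := hP.pgroup.isNilpotent
  set H := K ⊓ normalizer (P : Set X) with hH
  have hAH : A ≤ normalizer (H : Set X) := le_normalizer_inf h.hAK (hP.inv.trans le_normalizer)
  have hsolH : Group.IsSolvable H := h.solvable_inf_normalizer hP.le hP.inv hne inferInstance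
  obtain ⟨J, hJ, hAJ, -⟩ := h.exists_hall (inf_le_left : H ≤ K) hAH hsolH {t | t ≠ p}
  refine h.lines_of_moved hP hP.le hP.pgroup hP.inv (hJ.1.trans inf_le_left) hAJ
    (fun hd => hJ.2.1 p Fact.out hd rfl) (hJ.1.trans inf_le_right) fun hcent => h.not_hasNPC hP hne ?_
  have hC : H ≤ centralizer (P : Set X) := by
    set C := H ⊓ centralizer (P : Set X)
    have hPH : P ≤ H := le_inf hP.le le_normalizer
    have hPC : P ≤ C := le_inf hPH fun x hx => mem_centralizer_iff.mpr fun y hy => hab y hy x hx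
    refine le_trans (relIndex_eq_one.mp ?_) (inf_le_right : C ≤ _)
    refine Nat.eq_one_iff_not_exists_prime_dvd.mpr fun t ht hd => ?_
    by_cases htp : t = p
    · subst htp
      obtain ⟨S, hS⟩ := hP.syl
      have h1 : t ∣ P.relIndex K := hd.trans
        ((relIndex_dvd_of_le_left H hPC).trans
          (Dvd.intro _ (relIndex_mul_relIndex P H K hPH inf_le_left)))
      rw [← hS, relIndex, subgroupOf, comap_map_eq_self_of_injective K.subtype_injective] at h1
      exact S.not_dvd_index h1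
    · exact hJ.2.2 t ht htp (hd.trans (relIndex_dvd_of_le_left H (le_inf hJ.1 hcent)))
  obtain ⟨S, hS⟩ := hP.syl
  have hSc : normalizer ((S : Subgroup K) : Set K) ≤ centralizer ((S : Subgroup K) : Set K) := by
    intro x hx
    refine mem_centralizer_iff.mpr fun y hy => Subtype.ext ?_
    have h1 : (x : X) ∈ normalizer (P : Set X) := hS ▸ le_normalizer_map K.subtype ⟨x, hx, rfl⟩
    exact mem_centralizer_iff.mp (hC ⟨x.2, h1⟩) y (hS ▸ ⟨y, hy, rfl⟩)
  exact Cfsg.Lib.Transfer.hasNormalPComplement_of_isComplement'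
    (MonoidHom.ker_transferSylow_isComplement' S hSc)

end Min

end Cfsg.Lib.AbQSq
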