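/-
Maximal invariant `{p, r}`-subgroups.
-/
import Cfsg.Agent.Coprime.AbelianQSq.Lines
import Cfsg.Agent.Coprime.AbelianQSq.QdTwo
import Cfsg.Agent.S0661
import Cfsg.Agent.S0664
import Cfsg.Agent.Components.ZJ.Reduce
import Cfsg.Agent.Components.ZJ.Closed

set_option linter.style.haveILetI false
set_option linter.unusedSectionVars false

namespace Cfsg.Lib.AbQSq

open Subgroup Cfsg.Lib.Coprime
open scoped commutatorElement

universe u

variable {X : Type u} [Group X]

/-- invariant solvable `{p, r}`-subgroups of `K` -/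
structure PRSub (A K : Subgroup X) (p r : ℕ) (H : Subgroup X) : Prop where
  le : H ≤ K
  inv : A ≤ normalizer (H : Set X)
  solv : Group.IsSolvable H
  primes : ∀ t : ℕ, t.Prime → t ∣ Nat.card H → t = p ∨ t = r

/-- maximal ones -/
def MaxPR (A K : Subgroup X) (p r : ℕ) (Y : Subgroup X) : Prop := Maximal (PRSub A K p r) Y

/-- `O_p(Y)` inside the ambient group -/
def op (p : ℕ) (Y : Subgroup X) : Subgroup X := (Cfsg.pCore p Y).map Y.subtype

/-- the centre inside the ambient group -/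
def zc (U : Subgroup X) : Subgroup X := U ⊓ centralizer (U : Set X)

theorem zc_le (U : Subgroup X) : zc U ≤ U := inf_le_left

theorem zc_le_centralizer (U : Subgroup X) : zc U ≤ centralizer (U : Set X) := inf_le_right

theorem op_le {p : ℕ} (Y : Subgroup X) : op p Y ≤ Y := map_subtype_le _

theorem le_normalizer_zc {B U : Subgroup X} (h : B ≤ normalizer (U : Set X)) :
    B ≤ normalizer (zc U : Set X) :=
  le_normalizer_inf h (le_normalizer_centralizer h)

theorem le_centralizer_of_normalize {U W : Subgroup X} (h1 : U ≤ normalizer (W : Set X))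
    (h2 : W ≤ normalizer (U : Set X)) (h : U ⊓ W = ⊥) : U ≤ centralizer (W : Set X) := by
  intro u hu
  refine mem_centralizer_iff.mpr fun w hw => ?_
  rw [SetLike.mem_coe] at hw
  have hm : ⁅u, w⁆ ∈ U ⊓ W := Subgroup.mem_inf.mpr ⟨by
      rw [commutatorElement_def, mul_assoc, mul_assoc, ← mul_assoc w]
      exact mul_mem hu ((mem_normalizer_iff.mp (h2 hw) _).mp (inv_mem hu)), by
      rw [commutatorElement_def]
      exact mul_mem ((mem_normalizer_iff.mp (h1 hu) _).mp hw) (inv_mem hw)⟩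
  rw [h, mem_bot, commutatorElement_eq_one_iff_mul_comm] at hm
  exact hm.symm

theorem normalizer_conj_le {Y : Subgroup X} {g : X} (U : Subgroup X) (hY : Y ≤ normalizer (U : Set X))
    (hg : g ∈ normalizer (Y : Set X)) :
    Y ≤ normalizer ((U.map (MulAut.conj g).toMonoidHom : Subgroup X) : Set X) := by
  show Y ≤ normalizer (conjMap g U : Set X)
  rw [normalizer_conjMap]
  exact (conjMap_eq_self hg).ge.trans (conjMap_mono hY)

section Finite

variable [Finite X]

theorem zc_ne_bot {t : ℕ} [Fact t.Prime] {U : Subgroup X} (hU : IsPGroup t U) (hne : U ≠ ⊥) :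
    zc U ≠ ⊥ :=
  center_inter_ne_bot hU le_rfl le_normalizer hne

theorem isPGroup_op (p : ℕ) (Y : Subgroup X) : IsPGroup p (op p Y) :=
  (Cfsg.Lib.Components.isPGroup_pCore (G := Y) p).map _

theorem normalizer_le_normalizer_op (p : ℕ) (Y : Subgroup X) :
    normalizer (Y : Set X) ≤ normalizer (op p Y : Set X) :=
  haveI : (Cfsg.pCore p Y).Characteristic := Cfsg.Lib.Components.pCore_characteristic
  normalizer_le_normalizer_map_char _

theorem le_normalizer_op (p : ℕ) (Y : Subgroup X) : Y ≤ normalizer (op p Y : Set X) :=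
  le_normalizer.trans (normalizer_le_normalizer_op p Y)

theorem le_op {p : ℕ} {U Y : Subgroup X} (hUY : U ≤ Y) (hU : IsPGroup p U)
    (hn : Y ≤ normalizer (U : Set X)) : U ≤ op p Y := by
  haveI : (U.subgroupOf Y).Normal := (normal_subgroupOf_iff_le_normalizer hUY).mpr hn
  rw [← map_subgroupOf_eq_of_le hUY]
  exact Subgroup.map_mono (Cfsg.Lib.Components.le_pCore hU.comap_subtype)

theorem inf_eq_bot_of_ne {p r : ℕ} [Fact p.Prime] [Fact r.Prime] (hne : p ≠ r) {U W : Subgroup X}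
    (hU : IsPGroup p U) (hW : IsPGroup r W) : U ⊓ W = ⊥ :=
  Cfsg.Lib.Coprime.inf_eq_bot_of_coprime (IsPGroup.coprime_card_of_ne p r hne U W hU hW)

theorem primes_of_isPGroup {t : ℕ} [Fact t.Prime] {U : Subgroup X} (hU : IsPGroup t U) {s : ℕ}
    (hs : s.Prime) (hd : s ∣ Nat.card U) : s = t := by
  obtain ⟨k, hk⟩ := IsPGroup.iff_card.mp hU
  exact (Nat.prime_dvd_prime_iff_eq hs Fact.out).mp (hs.dvd_of_dvd_pow (hk ▸ hd))

theorem eq_of_inf_normalizer_le {t : ℕ} [Fact t.Prime] {U P : Subgroup X} (hP : IsPGroup t P)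
    (hUP : U ≤ P) (h : P ⊓ normalizer (U : Set X) ≤ U) : P ≤ U := by
  haveI := hP.isNilpotent
  by_contra hcon
  have hlt : U.subgroupOf P < ⊤ := lt_top_iff_ne_top.mpr fun e => hcon (subgroupOf_eq_top.mp e)
  obtain ⟨x, hxn, hxU⟩ :=
    SetLike.exists_of_lt (Group.normalizerCondition_of_isNilpotent (G := P) _ hlt)
  rw [← subgroupOf_normalizer_eq hUP] at hxn
  exact hxU (h ⟨x.2, hxn⟩)

/-- a `p`-subgroup normalised by a Sylow `r`-subgroup lies in `O_p` -/
theorem le_pCore_of_normalized {G : Type u} [Group G] [Finite G] [Group.IsSolvable G] {p r : ℕ}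
    [Fact p.Prime] [Fact r.Prime] (hne : p ≠ r)
    (hcard : ∀ t : ℕ, t.Prime → t ∣ Nat.card G → t = p ∨ t = r) (S : Sylow r G) {U : Subgroup G}
    (hU : IsPGroup p U) (hS : (S : Subgroup G) ≤ normalizer (U : Set G)) : U ≤ Cfsg.pCore p G := by
  set O := Cfsg.pPrimeCore r G
  set π := QuotientGroup.mk' O
  set C := Cfsg.pCore r (G ⧸ O)
  set S' := S.mapSurjective (QuotientGroup.mk'_surjective O)
  have hCS : C ≤ (S' : Subgroup (G ⧸ O)) := Cfsg.Lib.Coprime.pCore_le_sylow r S'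
  have hUn : (S' : Subgroup (G ⧸ O)) ≤ normalizer ((U.map π : Subgroup (G ⧸ O)) : Set (G ⧸ O)) :=
    (Subgroup.map_mono hS).trans (le_normalizer_map π)
  have hbot : U.map π ⊓ C = ⊥ :=
    inf_eq_bot_of_ne hne (hU.map π) (Cfsg.Lib.Components.isPGroup_pCore r)
  have hUC : U.map π ≤ C :=
    (le_centralizer_of_normalize le_normalizer_of_normal (hCS.trans hUn) hbot).trans
      (Cfsg.Lib.Coprime.centralizer_pCore_le r Cfsg.Lib.Coprime.pPrimeCore_quotient_eq_bot)
  rw [inf_eq_left.mpr hUC, Subgroup.map_eq_bot_iff, QuotientGroup.ker_mk'] at hbot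
  refine hbot.trans (Cfsg.Lib.Components.le_pCore ?_)
  have hO := Cfsg.Lib.Components.coprime_card_pPrimeCore (G := G) r
  refine IsPGroup.of_card (Nat.eq_prime_pow_of_unique_prime_dvd Nat.card_pos.ne' fun {t} ht htd => ?_)
  refine (hcard t ht (htd.trans (card_subgroup_dvd_card O))).resolve_right fun e => ?_
  subst e
  exact ht.not_dvd_one (hO ▸ Nat.dvd_gcd htd dvd_rfl)

namespace PRSub

variable {A K : Subgroup X} {p r : ℕ}

theorem symm {H : Subgroup X} (h : PRSub A K p r H) : PRSub A K r p H :=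
  ⟨h.le, h.inv, h.solv, fun t ht hd => (h.primes t ht hd).symm⟩

end PRSub

theorem MaxPR.symm {A K : Subgroup X} {p r : ℕ} {Y : Subgroup X} (h : MaxPR A K p r Y) :
    MaxPR A K r p Y :=
  ⟨h.1.symm, fun _ hZ hle => h.2 hZ.symm hle⟩

namespace InvSyl

variable {A K : Subgroup X} {t : ℕ} [Fact t.Prime] {P : Subgroup X}

theorem inf_syl (hP : InvSyl A K t P) {q : ℕ} (h : Cfg A K q) {H : Subgroup X} (hHK : H ≤ K)
    (hAH : A ≤ normalizer (H : Set X)) :
    ∃ S : Sylow t H, (S : Subgroup H).map H.subtype = P ⊓ H := by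
  obtain ⟨S, hS⟩ := exists_invariant_sylow hAH (h.copA hHK) (Or.inl h.solvableA) t
  have hle : (S : Subgroup H).map H.subtype ≤ P ⊓ H :=
    le_inf (hP.max _ ((map_subtype_le _).trans hHK) (S.2.map _) hS) (map_subtype_le _)
  refine ⟨S, le_antisymm hle ?_⟩
  have he : (P ⊓ H).subgroupOf H = (S : Subgroup H) :=
    S.3 (hP.pgroup.to_le inf_le_left).comap_subtype
      (fun x hx => mem_subgroupOf.mpr (hle (mem_map_of_mem _ hx)))
  rw [← he, map_subgroupOf_eq_of_le inf_le_right]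

end InvSyl

/-- the configuration of two Sylow subgroups in no common proper invariant subgroup -/
structure Pair (A K : Subgroup X) (q p r : ℕ) (P R : Subgroup X) : Prop where
  min : Min A K q
  hp : p.Prime
  hr : r.Prime
  hne : p ≠ r
  hP : InvSyl A K p P
  hR : InvSyl A K r R
  P1 : P ≠ ⊥
  R1 : R ≠ ⊥
  nojoin : ∀ H : Subgroup X, H ≤ K → A ≤ normalizer (H : Set X) → Group.IsSolvable H →
    P ≤ H → R ≤ H → False

namespace Pair

variable {A K : Subgroup X} {q p r : ℕ} {P R : Subgroup X} (h : Pair A K q p r P R)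
include h

theorem symm : Pair A K q r p R P :=
  ⟨h.min, h.hr, h.hp, h.hne.symm, h.hR, h.hP, h.R1, h.P1, fun H h1 h2 h3 h4 h5 => h.nojoin H h1 h2 h3 h5 h4⟩

theorem pr_of_pgroup {U : Subgroup X} (hUK : U ≤ K) (hU : IsPGroup p U)
    (hAU : A ≤ normalizer (U : Set X)) : PRSub A K p r U :=
  haveI := Fact.mk h.hp
  haveI := hU.isNilpotent
  ⟨hUK, hAU, inferInstance, fun _ ht hd => Or.inl (primes_of_isPGroup hU ht hd)⟩

theorem pr_of_le_P {U : Subgroup X} (hUP : U ≤ P) (hAU : A ≤ normalizer (U : Set X)) :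
    PRSub A K p r U :=
  h.pr_of_pgroup (hUP.trans h.hP.le) (h.hP.pgroup.to_le hUP) hAU

theorem pr_of_le_R {U : Subgroup X} (hUR : U ≤ R) (hAU : A ≤ normalizer (U : Set X)) :
    PRSub A K p r U :=
  (h.symm.pr_of_le_P hUR hAU).symm

theorem pr_of_le {H U : Subgroup X} (hH : PRSub A K p r H) (hUH : U ≤ H)
    (hAU : A ≤ normalizer (U : Set X)) : PRSub A K p r U :=
  ⟨hUH.trans hH.le, hAU, isSolvable_of_le hUH hH.solv,
    fun t ht hd => hH.primes t ht (hd.trans (Subgroup.card_dvd_of_le hUH))⟩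

theorem exists_max_ge {J : Subgroup X} (hJ : PRSub A K p r J) :
    ∃ Y, MaxPR A K p r Y ∧ J ≤ Y := by
  obtain ⟨Y, h1, h2⟩ := Set.Finite.exists_le_maximal (Set.toFinite {H | PRSub A K p r H}) hJ
  exact ⟨Y, h2, h1⟩

/-- invariant `{p, r}`-subgroups of a solvable invariant subgroup lie in a common maximal one -/
theorem join {H : Subgroup X} (hHK : H ≤ K) (hAH : A ≤ normalizer (H : Set X))
    (hs : Group.IsSolvable H) :
    ∃ Y, MaxPR A K p r Y ∧ ∀ J, PRSub A K p r J → J ≤ H → J ≤ Y := by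
  obtain ⟨M, hM, hAM, hmax⟩ := h.min.exists_hall hHK hAH hs {t | t = p ∨ t = r}
  obtain ⟨Y, hY, hMY⟩ := h.exists_max_ge (J := M) ⟨hM.1.trans hHK, hAM, isSolvable_of_le hM.1 hs,
    fun t ht hd => hM.2.1 t ht hd⟩
  exact ⟨Y, hY, fun J hJ hJH => (hmax J hJH hJ.inv hJ.primes).trans hMY⟩

/-- join inside a centraliser -/
theorem join_centralizer {U : Subgroup X} (hUK : U ≤ K) (hAU : A ≤ normalizer (U : Set X))
    (hne : U ≠ ⊥) (hs : Group.IsSolvable U) :
    ∃ Y, MaxPR A K p r Y ∧ ∀ J, PRSub A K p r J → J ≤ centralizer (U : Set X) → J ≤ Y := by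
  have hle : K ⊓ centralizer (U : Set X) ≤ K ⊓ normalizer (U : Set X) :=
    inf_le_inf_left K (centralizer_le_normalizer U)
  obtain ⟨Y, hY, hmax⟩ := h.join (inf_le_left : K ⊓ centralizer (U : Set X) ≤ K)
    (le_normalizer_inf h.min.hAK (le_normalizer_centralizer hAU))
    (isSolvable_of_le hle (h.min.solvable_inf_normalizer hUK hAU hne hs))
  exact ⟨Y, hY, fun J hJ hJU => hmax J hJ (le_inf hJ.le hJU)⟩

theorem norm {Y U J : Subgroup X} (hY : MaxPR A K p r Y) (hne : U ≠ ⊥) (hUY : U ≤ Y)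
    (hAU : A ≤ normalizer (U : Set X)) (hYU : Y ≤ normalizer (U : Set X)) (hJ : PRSub A K p r J)
    (hJU : J ≤ normalizer (U : Set X)) : J ≤ Y := by
  obtain ⟨Z, hZ, hmax⟩ := h.join (inf_le_left : K ⊓ normalizer (U : Set X) ≤ K)
    (le_normalizer_inf h.min.hAK (hAU.trans le_normalizer))
    (h.min.solvable_inf_normalizer (hUY.trans hY.1.le) hAU hne (isSolvable_of_le hUY hY.1.solv))
  have hYZ := hmax Y hY.1 (le_inf hY.1.le hYU)
  exact (hmax J hJ (le_inf hJ.le hJU)).trans (hY.2 hZ.1 hYZ)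

theorem op_le_P {Y : Subgroup X} (hY : PRSub A K p r Y) : op p Y ≤ P :=
  h.hP.max _ ((op_le Y).trans hY.le) (isPGroup_op p Y) (hY.inv.trans (normalizer_le_normalizer_op p Y))

theorem inv_op {Y : Subgroup X} (hY : PRSub A K p r Y) : A ≤ normalizer (op p Y : Set X) :=
  hY.inv.trans (normalizer_le_normalizer_op p Y)

theorem centralizer_op_le {Y : Subgroup X} (hY : PRSub A K p r Y) (h0 : op r Y = ⊥) :
    Y ⊓ centralizer (op p Y : Set X) ≤ op p Y := by
  haveI := Fact.mk h.hp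
  haveI := Fact.mk h.hr
  haveI := hY.solv
  have hc : Cfsg.pPrimeCore p Y = ⊥ := by
    have hO := Cfsg.Lib.Components.coprime_card_pPrimeCore (G := Y) p
    have hp' : IsPGroup r (Cfsg.pPrimeCore p Y) := IsPGroup.of_card
      (Nat.eq_prime_pow_of_unique_prime_dvd Nat.card_pos.ne' fun {t} ht htd => by
        refine (hY.primes t ht (htd.trans (card_subgroup_dvd_card _))).resolve_left fun e => ?_
        subst e
        exact ht.not_dvd_one (hO ▸ Nat.dvd_gcd htd dvd_rfl))
    exact le_bot_iff.mp ((Cfsg.Lib.Components.le_pCore hp').trans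
      ((Subgroup.map_eq_bot_iff_of_injective _ Y.subtype_injective).mp h0).le)
  intro x hx
  refine ⟨⟨x, hx.1⟩, Cfsg.Lib.Coprime.centralizer_pCore_le p hc ?_, rfl⟩
  exact mem_centralizer_iff.mpr fun y hy => Subtype.ext
    (mem_centralizer_iff.mp hx.2 y ⟨y, hy, rfl⟩)

theorem max_ne_bot {Y : Subgroup X} (hY : MaxPR A K p r Y) : Y ≠ ⊥ := fun e =>
  h.P1 (le_bot_iff.mp ((hY.2 (h.pr_of_le_P le_rfl h.hP.inv) (e ▸ bot_le)).trans e.le))

theorem op_ne_bot {Y : Subgroup X} (hY : MaxPR A K p r Y) (h0 : op r Y = ⊥) : op p Y ≠ ⊥ := by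
  intro e
  refine h.max_ne_bot hY (le_bot_iff.mp (le_trans (fun x hx => ?_) e.le))
  refine h.centralizer_op_le hY.1 h0 ⟨hx, mem_centralizer_iff.mpr fun y hy => ?_⟩
  rw [e, SetLike.mem_coe, mem_bot] at hy
  simp [hy]

/-- in a member with two nontrivial cores, `Z(O_r)` centralises `O_p(X)` -/
theorem op_le_of_mixed {X' Y : Subgroup X} (hY : MaxPR A K p r Y) (hV : op p Y ≠ ⊥)
    (hW : op r Y ≠ ⊥) (hX : MaxPR A K p r X') (h1 : zc (op p Y) ≤ X') (h2 : zc (op r Y) ≤ X') :
    op p X' ≤ Y := by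
  haveI := Fact.mk h.hp
  haveI := Fact.mk h.hr
  set ZV := zc (op p Y) with hZV
  set ZW := zc (op r Y) with hZW
  set U := op p X' with hU
  have hZVY : ZV ≤ Y := (zc_le _).trans (op_le Y)
  have hZWY : ZW ≤ Y := (zc_le _).trans (op_le Y)
  have hZVp : IsPGroup p ZV := (isPGroup_op p Y).to_le (zc_le _)
  have hZWr : IsPGroup r ZW := (isPGroup_op r Y).to_le (zc_le _)
  have hYV : Y ≤ normalizer (ZV : Set X) := le_normalizer_zc (le_normalizer_op p Y)
  have hYW : Y ≤ normalizer (ZW : Set X) := le_normalizer_zc (le_normalizer_op r Y)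
  have hAV : A ≤ normalizer (ZV : Set X) := le_normalizer_zc (h.inv_op hY.1)
  have hAW : A ≤ normalizer (ZW : Set X) := le_normalizer_zc (h.symm.inv_op hY.1.symm)
  have hZV1 : ZV ≠ ⊥ := zc_ne_bot (isPGroup_op p Y) hV
  have hZW1 : ZW ≠ ⊥ := zc_ne_bot (isPGroup_op r Y) hW
  have hcom : ZV ≤ centralizer (ZW : Set X) :=
    le_centralizer_of_normalize (hZVY.trans hYW) (hZWY.trans hYV) (inf_eq_bot_of_ne h.hne hZVp hZWr)
  have hUp : IsPGroup p U := isPGroup_op p X'
  have hVU : ZV ≤ normalizer (U : Set X) := h1.trans (le_normalizer_op p X')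
  have hWU : ZW ≤ normalizer (U : Set X) := h2.trans (le_normalizer_op p X')
  set Cu := U ⊓ centralizer (ZV : Set X) with hCu
  have hAC : A ≤ normalizer (Cu : Set X) :=
    le_normalizer_inf (h.inv_op hX.1) (le_normalizer_centralizer hAV)
  have hCY : Cu ≤ Y := h.norm hY hZV1 hZVY hAV hYV
    (h.pr_of_le hX.1 (inf_le_left.trans (op_le X')) hAC)
    (inf_le_right.trans (centralizer_le_normalizer ZV))
  have hCW : Cu ≤ centralizer (ZW : Set X) :=
    le_centralizer_of_normalize (hCY.trans hYW)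
      (le_normalizer_inf hWU (le_normalizer_centralizer (hZWY.trans hYV)))
      (inf_eq_bot_of_ne h.hne (hUp.to_le inf_le_left) hZWr)
  have hQc : ZW ≤ centralizer (U : Set X) := by
    refine pq_lemma hZVp ?_ hUp hcom hVU hWU hCW
    obtain ⟨k, hk⟩ := IsPGroup.iff_card.mp hZWr
    rw [hk]
    exact Nat.Coprime.pow_left k ((Nat.coprime_primes h.hr h.hp).mpr h.hne.symm)
  exact h.norm hY hZW1 hZWY hAW hYW (h.pr_of_le hX.1 (op_le X') (h.inv_op hX.1))
    ((le_centralizer_iff.mp hQc).trans (centralizer_le_normalizer ZW))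

theorem op_ne_bot_of_mixed {X' Y : Subgroup X} (hY : MaxPR A K p r Y) (hV : op p Y ≠ ⊥)
    (hW : op r Y ≠ ⊥) (hX : MaxPR A K p r X') (h1 : zc (op p Y) ≤ X') (h2 : zc (op r Y) ≤ X') :
    op r X' ≠ ⊥ := by
  haveI := Fact.mk h.hp
  haveI := Fact.mk h.hr
  intro e
  have hsub := h.op_le_of_mixed hY hV hW hX h1 h2
  have hc : op p X' ≤ centralizer (zc (op r Y) : Set X) :=
    le_centralizer_of_normalize (hsub.trans (le_normalizer_zc (le_normalizer_op r Y)))
      (h2.trans (le_normalizer_op p X'))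
      (inf_eq_bot_of_ne h.hne (isPGroup_op p X') ((isPGroup_op r Y).to_le (zc_le _)))
  have h3 : zc (op r Y) ≤ op p X' :=
    (le_inf h2 (le_centralizer_iff.mp hc)).trans (h.centralizer_op_le hX.1 e)
  refine zc_ne_bot (isPGroup_op r Y) hW (le_bot_iff.mp ?_)
  rw [← inf_eq_bot_of_ne h.hne (isPGroup_op p X') ((isPGroup_op r Y).to_le (zc_le _))]
  exact le_inf h3 le_rfl

theorem op_le_op_of_mixed {X' Y : Subgroup X} (hY : MaxPR A K p r Y) (hV : op p Y ≠ ⊥)
    (hX : MaxPR A K p r X') (h1 : zc (op p Y) ≤ X') (h2 : op r Y ≤ X') : op r Y ≤ op r X' := by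
  haveI := Fact.mk h.hp
  haveI := Fact.mk h.hr
  haveI := hX.1.solv
  set ZV := zc (op p Y) with hZV
  set W := op r Y with hWd
  have hZVY : ZV ≤ Y := (zc_le _).trans (op_le Y)
  have hYV : Y ≤ normalizer (ZV : Set X) := le_normalizer_zc (le_normalizer_op p Y)
  have hAV : A ≤ normalizer (ZV : Set X) := le_normalizer_zc (h.inv_op hY.1)
  have hWc : W ≤ normalizer (ZV : Set X) := (op_le Y).trans hYV
  set L := X' ⊓ normalizer (ZV : Set X) with hL
  have hLY : L ≤ Y := h.norm hY (zc_ne_bot (isPGroup_op p Y) hV) hZVY hAV hYV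
    (h.pr_of_le hX.1 inf_le_left (le_normalizer_inf hX.1.inv (hAV.trans le_normalizer))) inf_le_right
  set Z' := ZV.subgroupOf X' with hZ'
  have hn : normalizer (Z' : Set X') = L.subgroupOf X' := by
    rw [hZ', ← subgroupOf_normalizer_eq h1]
    show (normalizer (ZV : Set X)).subgroupOf X' = (X' ⊓ normalizer (ZV : Set X)).subgroupOf X'
    rw [inf_comm, inf_subgroupOf_right]
  have hWL : W.subgroupOf X' ≤ normalizer (Z' : Set X') := by
    rw [hn]; exact fun x hx => ⟨x.2, hWc hx⟩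
  haveI : ((W.subgroupOf X').subgroupOf (normalizer (Z' : Set X'))).Normal := by
    refine (normal_subgroupOf_iff_le_normalizer hWL).mpr ?_
    rw [hn, ← subgroupOf_normalizer_eq h2]
    exact fun x hx => ((hLY.trans (le_normalizer_op r Y)) hx : (x : X) ∈ normalizer (W : Set X))
  have hcop : (Nat.card ((W.subgroupOf X').subgroupOf (normalizer (Z' : Set X')))).Coprime p := by
    rw [Nat.card_congr (subgroupOfEquivOfLe hWL).toEquiv, Nat.card_congr (subgroupOfEquivOfLe h2).toEquiv]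
    obtain ⟨k, hk⟩ := IsPGroup.iff_card.mp (isPGroup_op (X := X) r Y)
    rw [hk]
    exact Nat.Coprime.pow_left k ((Nat.coprime_primes h.hr h.hp).mpr h.hne.symm)
  have h3 : W.subgroupOf X' ≤ Cfsg.pPrimeCore p X' := by
    have h4 := Subgroup.map_mono (f := (normalizer (Z' : Set X')).subtype)
      (Cfsg.Lib.Components.le_pPrimeCore hcop)
    rw [map_subgroupOf_eq_of_le hWL, Cfsg.Agent.S0661.result
      (Cfsg.Lib.Coprime.centralizer_pCore_le p Cfsg.Lib.Coprime.pPrimeCore_quotient_eq_bot) Z'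
      ((isPGroup_op p Y).to_le (zc_le _)).comap_subtype] at h4
    exact h4.trans inf_le_left
  have h5 : IsPGroup r (Cfsg.pPrimeCore p X') := IsPGroup.of_card
    (Nat.eq_prime_pow_of_unique_prime_dvd Nat.card_pos.ne' fun {t} ht htd => by
      refine (hX.1.primes t ht (htd.trans (card_subgroup_dvd_card _))).resolve_left fun e => ?_
      subst e
      exact ht.not_dvd_one
        (Cfsg.Lib.Components.coprime_card_pPrimeCore (G := X') t ▸ Nat.dvd_gcd htd dvd_rfl))
  rw [← map_subgroupOf_eq_of_le h2]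
  exact Subgroup.map_mono (h3.trans (Cfsg.Lib.Components.le_pCore h5))

theorem eq_of_mixed {X' Y : Subgroup X} (hY : MaxPR A K p r Y) (hV : op p Y ≠ ⊥)
    (hW : op r Y ≠ ⊥) (hX : MaxPR A K p r X') (h1 : zc (op p Y) ≤ X') (h2 : zc (op r Y) ≤ X') :
    X' = Y := by
  have hUp := h.op_le_of_mixed hY hV hW hX h1 h2
  have hUr := h.symm.op_le_of_mixed hY.symm hW hV hX.symm h2 h1
  have hV' := h.symm.op_ne_bot_of_mixed hY.symm hW hV hX.symm h2 h1
  have hW' := h.op_ne_bot_of_mixed hY hV hW hX h1 h2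
  have hVX := h.op_le_of_mixed hX hV' hW' hY ((zc_le _).trans hUp) ((zc_le _).trans hUr)
  have hWX := h.symm.op_le_of_mixed hX.symm hW' hV' hY.symm ((zc_le _).trans hUr) ((zc_le _).trans hUp)
  have e : op r Y = op r X' := le_antisymm (h.op_le_op_of_mixed hY hV hX h1 hWX)
    (h.op_le_op_of_mixed hX hV' hY ((zc_le _).trans hUp) hUr)
  have hle : X' ≤ Y := h.norm hY hW (op_le Y) (h.symm.inv_op hY.1.symm) (le_normalizer_op r Y) hX.1
    (e ▸ le_normalizer_op r X')
  exact le_antisymm hle (hX.2 hY.1 hle)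

end Pair

end Finite

end Cfsg.Lib.AbQSq
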