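/-
No mixed maximal members; the members containing the `r`-Sylow subgroup.
-/
import Cfsg.Agent.Coprime.AbelianQSq.Members

set_option linter.style.haveILetI false
set_option linter.unusedSectionVars false

namespace Cfsg.Lib.AbQSq

open Subgroup Cfsg.Lib.Coprime
open scoped commutatorElement

universe u

variable {X : Type u} [Group X] [Finite X]

theorem zjA_le (D : Subgroup X) : Cfsg.centerThompsonAOf D ≤ D :=
  inf_le_left.trans (Subgroup.map_subtype_le _)

theorem le_normalizer_sSup {B : Subgroup X} {S : Set (Subgroup X)}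
    (hS : ∀ U ∈ S, B ≤ normalizer (U : Set X)) : B ≤ normalizer ((sSup S : Subgroup X) : Set X) := by
  have key : ∀ g ∈ B, ∀ x ∈ sSup S, g * x * g⁻¹ ∈ sSup S := by
    intro g hg
    have hle : sSup S ≤ (sSup S).comap (MulAut.conj g).toMonoidHom := sSup_le fun U hU x hx =>
      (le_sSup hU : U ≤ sSup S) ((mem_normalizer_iff.mp (hS U hU hg) x).mp hx)
    exact fun x hx => hle hx
  exact fun g hg => mem_normalizer_of_conj_mem (key g hg)
    fun x hx => by simpa using key _ (inv_mem hg) x hx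

namespace Pair

variable {A K : Subgroup X} {q p r : ℕ} {P R : Subgroup X} (h : Pair A K q p r P R)
include h

theorem inv_cd_P {d : X} (hd : d ∈ A) : A ≤ normalizer ((P ⊓ cd d : Subgroup X) : Set X) :=
  h.min.toCfg.inv_inf_cd h.hP.inv hd

theorem inv_cd_R {d : X} (hd : d ∈ A) : A ≤ normalizer ((R ⊓ cd d : Subgroup X) : Set X) :=
  h.min.toCfg.inv_inf_cd h.hR.inv hd

theorem cd_le_centralizer {d : X} (hd : d ∈ A) (hd1 : d ≠ 1) {U W : Subgroup X} (hUK : U ≤ K)
    (hWK : W ≤ K) (hU : U ≤ cd d) (hW : W ≤ cd d) : U ≤ centralizer (W : Set X) := fun _ hu =>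
  mem_centralizer_iff.mpr fun _ hw => h.min.toCfg.comm_cd hd hd1 (hWK hw) (hUK hu) (hW hw) (hU hu)

theorem rd_le_of_mixed {Y : Subgroup X} (hY : MaxPR A K p r Y) (hV : op p Y ≠ ⊥) (hW : op r Y ≠ ⊥)
    {d : X} (hd : d ∈ A) (hd1 : d ≠ 1) (hne : op p Y ⊓ cd d ≠ ⊥) : R ⊓ cd d ≤ Y := by
  haveI := Fact.mk h.hp
  haveI := Fact.mk h.hr
  set Vd := op p Y ⊓ cd d with hVd
  have hVK : Vd ≤ K := inf_le_left.trans ((op_le Y).trans hY.1.le)
  have hs : Group.IsSolvable Vd := isSolvable_of_le (inf_le_left.trans (op_le Y)) hY.1.solv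
  obtain ⟨X', hX, hmax⟩ := h.join_centralizer hVK (h.min.toCfg.inv_inf_cd (h.inv_op hY.1) hd) hne hs
  have hc : op r Y ≤ centralizer (op p Y : Set X) :=
    le_centralizer_of_normalize ((op_le Y).trans (le_normalizer_op p Y))
      ((op_le Y).trans (le_normalizer_op r Y))
      (inf_eq_bot_of_ne h.hne.symm (isPGroup_op r Y) (isPGroup_op p Y))
  have h1 : zc (op p Y) ≤ X' := hmax _ (h.pr_of_le hY.1 ((zc_le _).trans (op_le Y))
    (le_normalizer_zc (h.inv_op hY.1)))
    ((zc_le_centralizer _).trans (centralizer_le (SetLike.coe_subset_coe.mpr inf_le_left)))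
  have h2 : zc (op r Y) ≤ X' := hmax _ (h.pr_of_le hY.1 ((zc_le _).trans (op_le Y))
    (le_normalizer_zc (h.symm.inv_op hY.1.symm)))
    ((zc_le _).trans (hc.trans (centralizer_le (SetLike.coe_subset_coe.mpr inf_le_left))))
  rw [← h.eq_of_mixed hY hV hW hX h1 h2]
  exact hmax _ (h.pr_of_le_R inf_le_left (h.inv_cd_R hd))
    (h.cd_le_centralizer hd hd1 (inf_le_left.trans h.hR.le) hVK inf_le_right inf_le_right)

theorem R_le_of_mixed {Y : Subgroup X} (hY : MaxPR A K p r Y) (hV : op p Y ≠ ⊥)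
    (hW : op r Y ≠ ⊥) : R ≤ Y := by
  haveI := Fact.mk h.hp
  haveI := Fact.mk h.hr
  have hWR : op r Y ≤ R := h.symm.op_le_P hY.1.symm
  have hn : ∀ J : Subgroup X, J ≤ R → A ≤ normalizer (J : Set X) →
      J ≤ normalizer (op r Y : Set X) → J ≤ Y := fun J hJ hAJ hJW =>
    h.norm hY hW (op_le Y) (h.symm.inv_op hY.1.symm) (le_normalizer_op r Y) (h.pr_of_le_R hJ hAJ) hJW
  by_cases hD : ⁅R, R⁆ = ⊥
  · refine hn R le_rfl h.hR.inv ?_
    exact (commutator_eq_bot_iff_le_centralizer.mp hD).trans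
      ((centralizer_le (SetLike.coe_subset_coe.mpr hWR)).trans (centralizer_le_normalizer _))
  have hDR : ⁅R, R⁆ ≤ R := commutator_le_of_le_normalizer le_normalizer
  set Z0 := ⁅R, R⁆ ⊓ centralizer (R : Set X) with hZ0
  have hAZ0 : A ≤ normalizer (Z0 : Set X) :=
    le_normalizer_inf (le_normalizer_commutator h.hR.inv h.hR.inv) (le_normalizer_centralizer h.hR.inv)
  obtain ⟨c, hc, hc1, hne⟩ := h.min.toCfg.exists_line (inf_le_left.trans (hDR.trans h.hR.le)) hAZ0
    (center_inter_ne_bot h.hR.pgroup hDR (le_normalizer_commutator le_normalizer le_normalizer) hD)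
  set Z := Z0 ⊓ cd c with hZ
  have hAZ : A ≤ normalizer (Z : Set X) := h.min.toCfg.inv_inf_cd hAZ0 hc
  have hZR : Z ≤ R := inf_le_left.trans (inf_le_left.trans hDR)
  have hZc : Z ≤ centralizer (R : Set X) := inf_le_left.trans inf_le_right
  have hZY : Z ≤ Y := hn Z hZR hAZ
    ((hZc.trans (centralizer_le (SetLike.coe_subset_coe.mpr hWR))).trans (centralizer_le_normalizer _))
  have hZV : Z ≤ normalizer (op p Y : Set X) := hZY.trans (le_normalizer_op p Y)
  by_cases hcv : Z ≤ centralizer (op p Y : Set X)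
  · haveI := (h.hR.pgroup.to_le hZR).isNilpotent
    obtain ⟨X', hX, hmax⟩ := h.join_centralizer (hZR.trans h.hR.le) hAZ hne inferInstance
    have h1 : zc (op p Y) ≤ X' := hmax _ (h.pr_of_le hY.1 ((zc_le _).trans (op_le Y))
      (le_normalizer_zc (h.inv_op hY.1))) ((zc_le _).trans (le_centralizer_iff.mp hcv))
    have h2 : zc (op r Y) ≤ X' := hmax _ (h.pr_of_le hY.1 ((zc_le _).trans (op_le Y))
      (le_normalizer_zc (h.symm.inv_op hY.1.symm)))
      ((zc_le _).trans (hWR.trans (le_centralizer_iff.mp hZc)))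
    rw [← h.eq_of_mixed hY hV hW hX h1 h2]
    exact hmax _ (h.pr_of_le_R le_rfl h.hR.inv) (le_centralizer_iff.mp hZc)
  exfalso
  have hVp : IsPGroup p (op p Y) := isPGroup_op p Y
  have hVK : op p Y ≤ K := (op_le Y).trans hY.1.le
  have hcop : (Nat.card Z).Coprime (Nat.card (op p Y)) :=
    IsPGroup.coprime_card_of_ne r p h.hne.symm Z _ (h.hR.pgroup.to_le hZR) hVp
  have hS : ⁅R, R⁆ ≤ centralizer ((⁅op p Y, Z⁆ : Subgroup X) : Set X) := by
    refine h.min.toCfg.derived_le h.hR.le h.hR.pgroup h.hR.inv hc hc1 fun d hd hdc x hx => ?_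
    have hd1 := h.min.toCfg.ne_one_of_not_mem hdc
    obtain ⟨u, -, huV, hud, hu1, -⟩ := h.min.exists_moved_comm hVK (hZR.trans h.hR.le) hVp
      (h.inv_op hY.1) hAZ hZV hcop hc hc1 inf_le_right hd hdc hcv
    have hxY : x ∈ Y := h.rd_le_of_mixed hY hV hW hd hd1
      (fun e => hu1 ((eq_bot_iff_forall _).mp e u ⟨huV, hud⟩)) hx
    exact h.min.centralises_comm hVK (hZR.trans h.hR.le) hVp (h.inv_op hY.1) hAZ hZV hcop hc hc1
      inf_le_right hd hdc (h.hR.le hx.1) hx.2 (le_normalizer_op p Y hxY)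
      (le_centralizer_iff.mp hZc hx.1)
      ((IsPGroup.coprime_card_of_ne r p h.hne.symm R _ h.hR.pgroup hVp).coprime_dvd_left
        (Subgroup.orderOf_dvd_natCard _ hx.1))
  haveI := hVp.isNilpotent
  have hgen := commutator_commutator_eq hZV hcop (Or.inr inferInstance)
  rw [commutator_comm, commutator_eq_bot_iff_le_centralizer.mpr
    ((inf_le_left.trans inf_le_left : Z ≤ ⁅R, R⁆).trans hS)] at hgen
  exact hcv (commutator_eq_bot_iff_le_centralizer.mp (by rw [commutator_comm]; exact hgen.symm))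

/-- no member has both cores nontrivial -/
theorem op_eq_bot_or {Y : Subgroup X} (hY : MaxPR A K p r Y) : op p Y = ⊥ ∨ op r Y = ⊥ := by
  by_contra hcon
  rw [not_or] at hcon
  exact h.nojoin Y hY.1.le hY.1.inv hY.1.solv (h.symm.R_le_of_mixed hY.symm hcon.2 hcon.1)
    (h.R_le_of_mixed hY hcon.1 hcon.2)

theorem comm_inf_of_typeP {Y : Subgroup X} (hY : MaxPR A K p r Y) (h0 : op r Y = ⊥) :
    ∀ x ∈ R ⊓ Y, ∀ y ∈ R ⊓ Y, x * y = y * x := by
  haveI := Fact.mk h.hp
  haveI := Fact.mk h.hr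
  refine h.min.commutative_of_faithful h.hne ((op_le Y).trans hY.1.le) (inf_le_left.trans h.hR.le)
    (isPGroup_op p Y) (h.hR.pgroup.to_le inf_le_left) (h.inv_op hY.1)
    (le_normalizer_inf h.hR.inv hY.1.inv) (inf_le_right.trans (le_normalizer_op p Y)) ?_
  refine le_bot_iff.mp ?_
  rw [← inf_eq_bot_of_ne h.hne (isPGroup_op p Y) h.hR.pgroup]
  exact le_inf (le_trans (inf_le_inf_right _ inf_le_right) (h.centralizer_op_le hY.1 h0))
    (inf_le_left.trans inf_le_left)

theorem zc_P_le {Y : Subgroup X} (hY : MaxPR A K p r Y) (h0 : op r Y = ⊥) : zc P ≤ op p Y := by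
  have hc : zc P ≤ centralizer (op p Y : Set X) :=
    (zc_le_centralizer P).trans (centralizer_le (SetLike.coe_subset_coe.mpr (h.op_le_P hY.1)))
  have hY' : zc P ≤ Y := h.norm hY (h.op_ne_bot hY h0) (op_le Y) (h.inv_op hY.1) (le_normalizer_op p Y)
    (h.pr_of_le_P (zc_le P) (le_normalizer_zc h.hP.inv)) (hc.trans (centralizer_le_normalizer _))
  exact (le_inf hY' hc).trans (h.centralizer_op_le hY.1 h0)

theorem le_op_of_normalized {Y U : Subgroup X} (hY : PRSub A K p r Y) (hRY : R ≤ Y) (hUY : U ≤ Y)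
    (hU : IsPGroup p U) (hRU : R ≤ normalizer (U : Set X)) : U ≤ op p Y := by
  haveI := Fact.mk h.hp
  haveI := Fact.mk h.hr
  haveI := hY.solv
  obtain ⟨S, hS⟩ := h.hR.inf_syl h.min.toCfg hY.le hY.inv
  rw [inf_eq_left.mpr hRY] at hS
  rw [← map_subgroupOf_eq_of_le hUY]
  refine Subgroup.map_mono (le_pCore_of_normalized h.hne hY.primes S hU.comap_subtype ?_)
  rw [← subgroupOf_normalizer_eq hUY]
  intro x hx
  exact hRU (hS ▸ mem_map_of_mem _ hx)

theorem le_sup_inf {Y : Subgroup X} (hY : PRSub A K p r Y) : Y ≤ (P ⊓ Y) ⊔ (R ⊓ Y) := by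
  refine le_of_forall_sylow fun t ht => ?_
  haveI := Fact.mk ht
  haveI := Fact.mk h.hp
  haveI := Fact.mk h.hr
  by_cases hd : t ∣ Nat.card Y
  · rcases hY.primes t ht hd with e | e
    · subst e
      obtain ⟨S, hS⟩ := h.hP.inf_syl h.min.toCfg hY.le hY.inv
      exact ⟨S, hS ▸ le_sup_left⟩
    · subst e
      obtain ⟨S, hS⟩ := h.hR.inf_syl h.min.toCfg hY.le hY.inv
      exact ⟨S, hS ▸ le_sup_right⟩
  · obtain ⟨S⟩ := (inferInstance : Nonempty (Sylow t Y))
    refine ⟨S, ?_⟩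
    obtain ⟨k, hk⟩ := IsPGroup.iff_card.mp S.2
    rcases k with _ | k
    · rw [pow_zero, Subgroup.card_eq_one] at hk
      rw [hk, Subgroup.map_bot]
      exact bot_le
    · exact absurd ((dvd_pow_self t k.succ_ne_zero).trans (hk ▸ card_subgroup_dvd_card _)) hd

/-- a member with `O_p = 1` contains `R` and normalises `Z(J(R))` -/
theorem typeR_spec (hr2 : r ≠ 2) {Y : Subgroup X} (hY : MaxPR A K p r Y) (h0 : op p Y = ⊥) :
    R ≤ Y ∧ Y ≤ normalizer (Cfsg.centerThompsonAOf R : Set X) := by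
  haveI := Fact.mk h.hp
  haveI := Fact.mk h.hr
  haveI := hY.1.solv
  set R0 := R ⊓ Y with hR0
  obtain ⟨S, hS⟩ := h.hR.inf_syl h.min.toCfg hY.1.le hY.1.inv
  have hab : ∀ S2 : Sylow 2 Y, ∀ x ∈ S2, ∀ y ∈ S2, x * y = y * x := by
    intro S2 x hx y hy
    by_cases hp2 : p = 2
    · subst hp2
      obtain ⟨T, hT⟩ := h.hP.inf_syl h.min.toCfg hY.1.le hY.1.inv
      obtain ⟨g, hg⟩ := MulAction.exists_smul_eq Y T S2
      rw [← hg] at hx hy
      rw [← SetLike.mem_coe, ← Sylow.coe_coe, Sylow.coe_subgroup_smul, conj_smul_eq, SetLike.mem_coe,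
        mem_conjMap] at hx hy
      have hc := h.symm.comm_inf_of_typeP hY.symm h0 _ (hT ▸ mem_map_of_mem Y.subtype hx) _
        (hT ▸ mem_map_of_mem Y.subtype hy)
      have hc' : g⁻¹ * x * g * (g⁻¹ * y * g) = g⁻¹ * y * g * (g⁻¹ * x * g) := Subtype.ext hc
      calc x * y = g * (g⁻¹ * x * g * (g⁻¹ * y * g)) * g⁻¹ := by group
        _ = g * (g⁻¹ * y * g * (g⁻¹ * x * g)) * g⁻¹ := by rw [hc']
        _ = y * x := by group
    · obtain ⟨k, hk⟩ := IsPGroup.iff_card.mp S2.2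
      rcases k with _ | k
      · rw [pow_zero, Subgroup.card_eq_one] at hk
        have hx1 : x = 1 := by
          have : x ∈ (S2 : Subgroup Y) := hx
          rwa [hk, mem_bot] at this
        simp [hx1]
      · rcases hY.1.primes 2 Nat.prime_two
          ((dvd_pow_self 2 k.succ_ne_zero).trans (hk ▸ card_subgroup_dvd_card _)) with e | e
        · exact absurd e.symm hp2
        · exact absurd e.symm hr2
  have hcent : centralizer (Cfsg.pCore r Y : Set Y) ≤ Cfsg.pCore r Y := by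
    intro x hx
    have hm : (x : X) ∈ op r Y := h.symm.centralizer_op_le hY.1.symm h0 ⟨x.2, by
      refine mem_centralizer_iff.mpr ?_
      rintro _ ⟨y, hy, rfl⟩
      exact congrArg Subtype.val (mem_centralizer_iff.mp hx y hy)⟩
    obtain ⟨z, hz, e⟩ := hm
    rwa [← (Subtype.ext e : z = x)]
  have hnorm := Cfsg.Agent.S0664.result hr2 (qd_free_of_abelian_two hr2 hab) hcent S
  have hmap : (Cfsg.centerThompsonAOf (S : Subgroup Y)).map Y.subtype = Cfsg.centerThompsonAOf R0 := by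
    rw [Cfsg.Lib.ZJ.centerThompsonAOf_map_injOn Y.subtype_injective.injOn, hS]
  set Z := Cfsg.centerThompsonAOf R0 with hZ
  have hZR0 : Z ≤ R0 := zjA_le R0
  have hYZ : Y ≤ normalizer (Z : Set X) := by
    rw [← hmap]
    intro y hy
    exact le_normalizer_map Y.subtype ⟨⟨y, hy⟩, normalizer_eq_top_iff.mpr hnorm ▸ mem_top _, rfl⟩
  have hW : op r Y ≠ ⊥ := h.symm.op_ne_bot hY.symm h0
  have hR0ne : R0 ≠ ⊥ := fun e =>
    hW (le_bot_iff.mp (e ▸ le_inf (h.symm.op_le_P hY.1.symm) (op_le Y)))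
  have hnc : normalizer (R0 : Set X) ≤ normalizer (Z : Set X) := fun g hg => by
    rw [← conjMap_eq_self_iff]
    show Z.map (MulAut.conj g).toMonoidHom = Z
    rw [hZ, Cfsg.Lib.ZJ.centerThompsonAOf_map_injOn (MulAut.conj g).injective.injOn,
      show R0.map (MulAut.conj g).toMonoidHom = R0 from conjMap_eq_self hg]
  have hAR0 : A ≤ normalizer (R0 : Set X) := le_normalizer_inf h.hR.inv hY.1.inv
  have hle : R ⊓ normalizer (R0 : Set X) ≤ Y := h.norm hY
    (Cfsg.Lib.ZJ.centerThompsonAOf_ne_bot (h.hR.pgroup.to_le inf_le_left) hR0ne)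
    (hZR0.trans inf_le_right) (hAR0.trans hnc) hYZ
    (h.pr_of_le_R inf_le_left (le_normalizer_inf h.hR.inv (hAR0.trans le_normalizer)))
    (inf_le_right.trans hnc)
  have hRR0 : R ≤ R0 := eq_of_inf_normalizer_le h.hR.pgroup inf_le_left (le_inf inf_le_left hle)
  have e : R0 = R := le_antisymm inf_le_left hRR0
  exact ⟨hRR0.trans inf_le_right, by rwa [hZ, e] at hYZ⟩

theorem typeR_unique (hr2 : r ≠ 2) {Y Y' : Subgroup X} (hY : MaxPR A K p r Y) (h0 : op p Y = ⊥)
    (hY' : MaxPR A K p r Y') (h0' : op p Y' = ⊥) : Y' = Y := by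
  haveI := Fact.mk h.hr
  obtain ⟨hRY, hYZ⟩ := h.typeR_spec hr2 hY h0
  obtain ⟨-, hYZ'⟩ := h.typeR_spec hr2 hY' h0'
  have hZR : Cfsg.centerThompsonAOf R ≤ R := zjA_le R
  have hAZ : A ≤ normalizer (Cfsg.centerThompsonAOf R : Set X) := fun g hg => by
    rw [← conjMap_eq_self_iff]
    show (Cfsg.centerThompsonAOf R).map (MulAut.conj g).toMonoidHom = _
    rw [Cfsg.Lib.ZJ.centerThompsonAOf_map_injOn (MulAut.conj g).injective.injOn,
      show R.map (MulAut.conj g).toMonoidHom = R from conjMap_eq_self (h.hR.inv hg)]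
  have hle := h.norm hY (Cfsg.Lib.ZJ.centerThompsonAOf_ne_bot h.hR.pgroup h.R1) (hZR.trans hRY) hAZ
    hYZ hY'.1 hYZ'
  exact le_antisymm hle (hY'.2 hY.1 hle)

/-- `R` lies in no member with `O_r = 1` -/
theorem not_R_le_typeP (hr2 : r ≠ 2) {T : Subgroup X} (hT : MaxPR A K p r T) (hT0 : op r T = ⊥)
    (hRT : R ≤ T) : False := by
  haveI := Fact.mk h.hp
  haveI := Fact.mk h.hr
  have hRc : ∀ x ∈ R, ∀ y ∈ R, x * y = y * x := fun x hx y hy =>
    h.comm_inf_of_typeP hT hT0 x ⟨hx, hRT hx⟩ y ⟨hy, hRT hy⟩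
  have hRC : R ≤ centralizer (R : Set X) := fun x hx =>
    mem_centralizer_iff.mpr fun y hy => hRc y hy x hx
  set 𝒬 := {U : Subgroup X | U ≤ K ∧ IsPGroup p U ∧ A ≤ normalizer (U : Set X) ∧
    R ≤ normalizer (U : Set X)} with h𝒬
  set Q := sSup 𝒬 with hQ
  have hQP : Q ≤ P := sSup_le fun U hU => h.hP.max U hU.1 hU.2.1 hU.2.2.1
  have hQp : IsPGroup p Q := h.hP.pgroup.to_le hQP
  have hQK : Q ≤ K := hQP.trans h.hP.le
  have hAQ : A ≤ normalizer (Q : Set X) := le_normalizer_sSup fun U hU => hU.2.2.1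
  have hRQ : R ≤ normalizer (Q : Set X) := le_normalizer_sSup fun U hU => hU.2.2.2
  have hle𝒬 : ∀ X' : Subgroup X, PRSub A K p r X' → R ≤ X' → op p X' ≤ Q := fun X' hX hR' =>
    le_sSup ⟨(op_le X').trans hX.le, isPGroup_op p X', h.inv_op hX, hR'.trans (le_normalizer_op p X')⟩
  have hQne : Q ≠ ⊥ := fun e =>
    h.op_ne_bot hT hT0 (le_bot_iff.mp ((hle𝒬 T hT.1 hRT).trans e.le))
  -- every member containing `R` has the same core
  have hR' : ∀ X' : Subgroup X, MaxPR A K p r X' → R ≤ X' → op r X' = ⊥ := by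
    intro Y hY hRY
    by_contra hne
    have h0 : op p Y = ⊥ := (h.op_eq_bot_or hY).resolve_right hne
    have hWR : op r Y ≤ R := h.symm.op_le_P hY.1.symm
    have hW : op r Y = R := le_antisymm hWR ((le_inf hRY
      (hRC.trans (centralizer_le (SetLike.coe_subset_coe.mpr hWR)))).trans
      (h.symm.centralizer_op_le hY.1.symm h0))
    have hYR : Y ≤ normalizer (R : Set X) := by
      rw [← hW]; exact le_normalizer_op r Y
    have hPQ : P ⊓ Y ≤ normalizer (Q : Set X) := by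
      set Q' := sSup ((fun g => Q.map (MulAut.conj g).toMonoidHom) '' ↑(P ⊓ Y)) with hQ'
      have hQ'P : Q' ≤ P := by
        refine sSup_le ?_
        rintro _ ⟨g, hg, rfl⟩
        exact (conjMap_mono hQP).trans (conjMap_eq_self (le_normalizer hg.1)).le
      have hAQ' : A ≤ normalizer (Q' : Set X) := by
        intro a ha
        have key : ∀ a ∈ A, ∀ x ∈ Q', a * x * a⁻¹ ∈ Q' := by
          intro a ha
          have hle : Q' ≤ Q'.comap (MulAut.conj a).toMonoidHom := by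
            refine sSup_le ?_
            rintro _ ⟨g, hg, rfl⟩ _ ⟨x, hx, rfl⟩
            have hag : a * g * a⁻¹ ∈ P ⊓ Y :=
              (mem_normalizer_iff.mp (le_normalizer_inf h.hP.inv hY.1.inv ha) g).mp hg
            refine (le_sSup ⟨_, hag, rfl⟩ : (Q.map (MulAut.conj (a * g * a⁻¹)).toMonoidHom) ≤ Q') ?_
            exact ⟨a * x * a⁻¹, (mem_normalizer_iff.mp (hAQ ha) x).mp hx, by simp [mul_assoc]⟩
          exact fun x hx => hle hx
        exact mem_normalizer_of_conj_mem (key a ha) fun x hx => by simpa using key _ (inv_mem ha) x hx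
      have hRQ' : R ≤ normalizer (Q' : Set X) := by
        refine le_normalizer_sSup ?_
        rintro _ ⟨g, hg, rfl⟩
        exact normalizer_conj_le Q hRQ (hYR hg.2)
      have hle : Q' ≤ Q := le_sSup ⟨hQ'P.trans h.hP.le, h.hP.pgroup.to_le hQ'P, hAQ', hRQ'⟩
      intro g hg
      refine conjMap_eq_self_iff.mp (eq_of_le_of_card_eq ?_ (card_conjMap g Q))
      exact (le_sSup ⟨g, hg, rfl⟩ : Q.map (MulAut.conj g).toMonoidHom ≤ Q').trans hle
    have hYQ : Y ≤ normalizer (Q : Set X) :=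
      (h.le_sup_inf hY.1).trans (sup_le hPQ (inf_le_left.trans hRQ))
    haveI := hQp.isNilpotent
    obtain ⟨Z, hZ, hmax⟩ := h.join (inf_le_left : K ⊓ normalizer (Q : Set X) ≤ K)
      (le_normalizer_inf h.min.hAK (hAQ.trans le_normalizer))
      (h.min.solvable_inf_normalizer hQK hAQ hQne inferInstance)
    have hYZ := hmax Y hY.1 (le_inf hY.1.le hYQ)
    have hQY : Q ≤ Y :=
      (hmax Q (h.pr_of_le_P hQP hAQ) (le_inf hQK le_normalizer)).trans (hY.2 hZ.1 hYZ)
    exact hQne (le_bot_iff.mp ((le_op hQY hQp hYQ).trans h0.le))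
  have hopQ : ∀ X' : Subgroup X, MaxPR A K p r X' → R ≤ X' → op p X' = Q := by
    intro X' hX hRX
    have h0 := hR' X' hX hRX
    refine le_antisymm (hle𝒬 X' hX.1 hRX)
      (eq_of_inf_normalizer_le hQp (hle𝒬 X' hX.1 hRX) ?_)
    have hin : Q ⊓ normalizer (op p X' : Set X) ≤ X' :=
      h.norm hX (h.op_ne_bot hX h0) (op_le X') (h.inv_op hX.1) (le_normalizer_op p X')
        (h.pr_of_le_P (inf_le_left.trans hQP)
          (le_normalizer_inf hAQ ((h.inv_op hX.1).trans le_normalizer))) inf_le_right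
    exact h.le_op_of_normalized hX.1 hRX hin (hQp.to_le inf_le_left)
      (le_normalizer_inf hRQ ((hRX.trans (le_normalizer_op p X')).trans le_normalizer))
  have huniq : ∀ X' : Subgroup X, MaxPR A K p r X' → R ≤ X' → X' = T := by
    intro X' hX hRX
    have hle : X' ≤ T := h.norm hT (h.op_ne_bot hT hT0) (op_le T) (h.inv_op hT.1) (le_normalizer_op p T)
      hX.1 (by rw [hopQ T hT hRT, ← hopQ X' hX hRX]; exact le_normalizer_op p X')
    exact le_antisymm hle (hX.2 hT.1 hle)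
  have hPd : ∀ d ∈ A, d ≠ 1 → R ⊓ cd d ≠ ⊥ → P ⊓ cd d ≤ T := by
    intro d hd hd1 hne
    haveI := (h.hR.pgroup.to_le (inf_le_left : R ⊓ cd d ≤ R)).isNilpotent
    obtain ⟨Y, hY, hmax⟩ := h.join_centralizer (inf_le_left.trans h.hR.le) (h.inv_cd_R hd) hne
      inferInstance
    have hRY : R ≤ Y := hmax R (h.pr_of_le_R le_rfl h.hR.inv)
      (hRC.trans (centralizer_le (SetLike.coe_subset_coe.mpr inf_le_left)))
    rw [← huniq Y hY hRY]
    exact hmax _ (h.pr_of_le_P inf_le_left (h.inv_cd_P hd))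
      (h.cd_le_centralizer hd hd1 (inf_le_left.trans h.hP.le) (inf_le_left.trans h.hR.le)
        inf_le_right inf_le_right)
  obtain ⟨f, hf, hf1, hlines⟩ := h.min.lines_abelian h.hR h.R1 hRc
  have hRf : R ⊓ cd f = ⊥ := by
    by_contra hne
    refine h.nojoin T hT.1.le hT.1.inv hT.1.solv
      (h.min.toCfg.le_of_lines h.hP.le h.hP.inv fun d hd hd1 => hPd d hd hd1 ?_) hRT
    by_cases hdf : d ∈ zpowers f
    · rwa [h.min.toCfg.cd_eq hf hf1 hdf hd1]
    · exact hlines d hd hdf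
  set V := op p T with hV
  set Pf := P ⊓ T ⊓ cd f with hPf
  have hPfV : Pf ≤ normalizer (V : Set X) :=
    (inf_le_left.trans inf_le_right).trans (le_normalizer_op p T)
  set P0 := P ⊓ T ⊓ normalizer (R : Set X) with hP0
  have hAP0 : A ≤ normalizer (P0 : Set X) :=
    le_normalizer_inf (le_normalizer_inf h.hP.inv hT.1.inv) (h.hR.inv.trans le_normalizer)
  have hP0V : P0 ≤ V ⊔ Pf := by
    refine h.min.toCfg.le_of_lines ((inf_le_left.trans inf_le_left).trans h.hP.le) hAP0 ?_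
    intro g hg hg1
    by_cases hgf : g ∈ zpowers f
    · refine le_trans ?_ le_sup_right
      rw [h.min.toCfg.cd_eq hf hf1 hgf hg1]
      exact inf_le_inf_right _ inf_le_left
    refine le_trans ?_ le_sup_left
    set Zg := P0 ⊓ cd g with hZg
    have hZgP : Zg ≤ P := inf_le_left.trans (inf_le_left.trans inf_le_left)
    have hZgR : Zg ≤ normalizer (R : Set X) := inf_le_left.trans inf_le_right
    have hfg : f ∉ zpowers g := fun e =>
      hgf ((h.min.toCfg.zpowers_eq hg hg1 e hf1).symm ▸ mem_zpowers g)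
    have hcen : Zg ≤ centralizer (R : Set X) := by
      by_contra hne
      obtain ⟨u, -, huR, huf, hu1, -⟩ := h.min.exists_moved_comm h.hR.le (hZgP.trans h.hP.le)
        h.hR.pgroup h.hR.inv (h.min.toCfg.inv_inf_cd hAP0 hg) hZgR
        (IsPGroup.coprime_card_of_ne p r h.hne Zg R (h.hP.pgroup.to_le hZgP) h.hR.pgroup)
        hg hg1 inf_le_right hf hfg hne
      exact hu1 ((eq_bot_iff_forall _).mp hRf u ⟨huR, huf⟩)
    exact h.le_op_of_normalized hT.1 hRT (inf_le_left.trans (inf_le_left.trans inf_le_right))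
      (h.hP.pgroup.to_le hZgP) ((le_centralizer_iff.mp hcen).trans (centralizer_le_normalizer Zg))
  have hPT : P ⊓ T ≤ V ⊔ Pf := by
    haveI := hT.1.solv
    obtain ⟨S, hS⟩ := h.hR.inf_syl h.min.toCfg hT.1.le hT.1.inv
    rw [inf_eq_left.mpr hRT] at hS
    have hSc : IsMulCommutative (S : Subgroup T) := ⟨⟨fun a b => Subtype.ext (Subtype.ext
      (hRc _ (hS ▸ mem_map_of_mem T.subtype a.2) _ (hS ▸ mem_map_of_mem T.subtype b.2)))⟩⟩
    haveI hn := abelian_sylow_sup_core_normal S hSc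
    have hO : Cfsg.pPrimeCore r T ≤ Cfsg.pCore p T := Cfsg.Lib.Components.le_pCore (IsPGroup.of_card
      (Nat.eq_prime_pow_of_unique_prime_dvd Nat.card_pos.ne' fun {t} ht htd => by
        refine (hT.1.primes t ht (htd.trans (card_subgroup_dvd_card _))).resolve_right fun e => ?_
        subst e
        exact ht.not_dvd_one
          (Cfsg.Lib.Components.coprime_card_pPrimeCore (G := T) t ▸ Nat.dvd_gcd htd dvd_rfl)))
    have hFr : normalizer ((S : Subgroup T) : Set T) ⊔ Cfsg.pCore p T = ⊤ := by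
      refine top_le_iff.mp ((Sylow.normalizer_sup_eq_top' (N := (S : Subgroup T) ⊔ Cfsg.pPrimeCore r T) S le_sup_left).ge.trans ?_)
      exact sup_le le_sup_left (sup_le (le_normalizer.trans le_sup_left) (hO.trans le_sup_right))
    intro x hx
    obtain ⟨n, hn', v, hv, e⟩ :=
      (mem_sup_of_normal_right (t := Cfsg.pCore p T)).mp (hFr.ge (mem_top (⟨x, hx.2⟩ : T)))
    have hvV : (v : X) ∈ V := ⟨v, hv, rfl⟩
    have hxe : x = (n : X) * (v : X) := (congrArg Subtype.val e).symm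
    have hnx : (n : X) = x * (v : X)⁻¹ := by
      rw [hxe, mul_inv_cancel_right]
    have hn0 : (n : X) ∈ P0 := by
      refine ⟨⟨?_, n.2⟩, ?_⟩
      · show (n : X) ∈ P
        rw [hnx]
        exact mul_mem hx.1 (inv_mem (h.op_le_P hT.1 hvV))
      · rw [← hS]
        exact le_normalizer_map T.subtype ⟨n, hn', rfl⟩
    rw [hxe]
    exact mul_mem (hP0V hn0) (mem_sup_left hvV)
  have hPV : ∀ d ∈ A, d ∉ zpowers f → P ⊓ cd d ≤ V := by
    intro d hd hdf x hx
    have hd1 := h.min.toCfg.ne_one_of_not_mem hdf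
    have hxT : x ∈ T := hPd d hd hd1 (hlines d hd hdf) hx
    obtain ⟨v, hv, y, hy, e⟩ := (mem_sup_of_le_normalizer hPfV).mp (hPT ⟨hx.1, hxT⟩)
    have hzA : zpowers d ≤ A := zpowers_le.mpr hd
    obtain ⟨v', hv', y', hy', e'⟩ := fixed_factorisation (A := zpowers d) (K := K) (X := V) (Y := Pf)
      (coprime_of_le_left hzA (h.min.toCfg.copA le_rfl)) (Or.inl inferInstance)
      ((op_le T).trans hT.1.le) (hzA.trans (h.inv_op hT.1))
      (hzA.trans (h.min.toCfg.inv_inf_cd (le_normalizer_inf h.hP.inv hT.1.inv) hf)) hv hy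
      (by rw [e, Cfsg.Lib.Coprime.centralizer_zpowers]; exact hx.2)
    have hy1 : y' = 1 := h.min.fixed_eq_one hf hf1 hd hdf (h.hP.le hy'.1.1.1)
      (mem_cd.mp hy'.1.2).symm (mem_centralizer_iff.mp hy'.2 d (mem_zpowers d))
    rw [hy1, mul_one, e] at e'
    exact e' ▸ hv'.1
  have hPn : P ≤ normalizer (V : Set X) := by
    have hD : ⁅P, P⁆ ≤ V := h.min.toCfg.derived_le h.hP.le h.hP.pgroup h.hP.inv hf hf1 hPV
    have key : ∀ x ∈ P, ∀ v ∈ V, x * v * x⁻¹ ∈ V := fun x hx v hv => by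
      rw [show x * v * x⁻¹ = ⁅x, v⁆ * v by rw [commutatorElement_def]; group]
      exact mul_mem (hD (commutator_mem_commutator hx (h.op_le_P hT.1 hv))) hv
    exact fun x hx => mem_normalizer_of_conj_mem (key x hx)
      fun v hv => by simpa using key _ (inv_mem hx) v hv
  exact h.nojoin T hT.1.le hT.1.inv hT.1.solv
    (h.norm hT (h.op_ne_bot hT hT0) (op_le T) (h.inv_op hT.1) (le_normalizer_op p T)
      (h.pr_of_le_P le_rfl h.hP.inv) hPn) hRT

end Pair

end Cfsg.Lib.AbQSq
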