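/-
Two invariant Sylow subgroups lie in a common proper invariant subgroup.
-/
import Cfsg.Agent.Coprime.AbelianQSq.Types

set_option linter.style.haveILetI false
set_option linter.unusedSectionVars false

namespace Cfsg.Lib.AbQSq

open Subgroup Cfsg.Lib.Coprime
open scoped commutatorElement

universe u

variable {X : Type u} [Group X] [Finite X]

namespace Pair

variable {A K : Subgroup X} {q p r : ℕ} {P R : Subgroup X} (h : Pair A K q p r P R)
include h

theorem contradiction_aux (hr2 : r ≠ 2) : False := by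
  haveI := Fact.mk h.hp
  haveI := Fact.mk h.hr
  have hRnil := h.hR.pgroup.isNilpotent
  obtain ⟨Kr, hKr, hRKr⟩ := h.exists_max_ge (h.pr_of_le_R le_rfl h.hR.inv)
  have hKr0 : op p Kr = ⊥ := (h.op_eq_bot_or hKr).resolve_right fun e =>
    h.not_R_le_typeP hr2 hKr e hRKr
  have huniq : ∀ Y, MaxPR A K p r Y → op p Y = ⊥ → Y = Kr := fun Y hY h0 =>
    h.typeR_unique hr2 hKr hKr0 hY h0
  have htype : ∀ Y, MaxPR A K p r Y → Y ≠ Kr → op r Y = ⊥ := fun Y hY hne =>
    (h.op_eq_bot_or hY).resolve_left fun e => hne (huniq Y hY e)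
  have hRmem : ∀ Y, MaxPR A K p r Y → R ≤ Y → Y = Kr := fun Y hY hRY => by
    by_contra hne
    exact h.not_R_le_typeP hr2 hY (htype Y hY hne) hRY
  set W := op r Kr with hW
  have hWR : W ≤ R := h.symm.op_le_P hKr.1.symm
  have hWc : Kr ⊓ centralizer (W : Set X) ≤ W := h.symm.centralizer_op_le hKr.1.symm hKr0
  have hWne : W ≠ ⊥ := h.symm.op_ne_bot hKr.symm hKr0
  have hWK : W ≤ K := hWR.trans h.hR.le
  have hPKr : ¬ P ≤ Kr := fun e => h.nojoin Kr hKr.1.le hKr.1.inv hKr.1.solv e hRKr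
  have hZP : zc P ≠ ⊥ := zc_ne_bot h.hP.pgroup h.P1
  have hAZP : A ≤ normalizer (zc P : Set X) := le_normalizer_zc h.hP.inv
  have hAW : A ≤ normalizer (W : Set X) := h.symm.inv_op hKr.1.symm
  by_cases hi : ∃ a ∈ A, a ≠ 1 ∧ zc P ⊓ cd a ≠ ⊥ ∧ zc P ⊓ cd a ≤ Kr
  · obtain ⟨a, ha, ha1, hne, hle⟩ := hi
    set Za := zc P ⊓ cd a with hZa
    have hZaP : Za ≤ P := inf_le_left.trans (zc_le P)
    have hAZa : A ≤ normalizer (Za : Set X) := h.min.toCfg.inv_inf_cd hAZP ha
    have hZaW : Za ≤ normalizer (W : Set X) := hle.trans (le_normalizer_op r Kr)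
    have hcop : (Nat.card Za).Coprime (Nat.card W) :=
      IsPGroup.coprime_card_of_ne p r h.hne Za W (h.hP.pgroup.to_le hZaP) (isPGroup_op r Kr)
    have hnc : ¬ Za ≤ centralizer (W : Set X) := fun e => hne (le_bot_iff.mp (by
      rw [← inf_eq_bot_of_ne h.hne (h.hP.pgroup.to_le hZaP) (isPGroup_op (X := X) r Kr)]
      exact le_inf le_rfl ((le_inf hle e).trans hWc)))
    have hTW : ∀ T, MaxPR A K p r T → op r T = ⊥ → ∀ w ∈ W, w ∈ T → ∀ z ∈ Za, z * w = w * z := by
      intro T hT hT0 w hw hwT z hz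
      have hzV : z ∈ op p T := h.zc_P_le hT hT0 hz.1
      have hm : ⁅w, z⁆ ∈ W ⊓ op p T := Subgroup.mem_inf.mpr ⟨by
        rw [commutatorElement_def, mul_assoc, mul_assoc, ← mul_assoc z]
        exact mul_mem hw ((mem_normalizer_iff.mp (hZaW hz) _).mp (inv_mem hw)), by
        rw [commutatorElement_def]
        exact mul_mem ((mem_normalizer_iff.mp (le_normalizer_op p T hwT) _).mp hzV) (inv_mem hzV)⟩
      rw [inf_eq_bot_of_ne h.hne.symm (isPGroup_op r Kr) (isPGroup_op p T), mem_bot,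
        commutatorElement_eq_one_iff_mul_comm] at hm
      exact hm.symm
    have hPd : ∀ d ∈ A, d ∉ zpowers a → P ⊓ cd d ≤ Kr ⊓ P := by
      intro d hd hda
      have hd1 := h.min.toCfg.ne_one_of_not_mem hda
      obtain ⟨u, -, huW, hud, -, z, hz, hzu⟩ := h.min.exists_moved_comm hWK (hZaP.trans h.hP.le)
        (isPGroup_op r Kr) hAW hAZa hZaW hcop ha ha1 inf_le_right hd hda hnc
      have hsol : Group.IsSolvable ↥(K ⊓ cd d) := Group.isSolvable_of_comm fun x y =>
        Subtype.ext (h.min.toCfg.comm_cd hd hd1 x.2.1 y.2.1 x.2.2 y.2.2)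
      obtain ⟨Y, hY, hmax⟩ := h.join (inf_le_left : K ⊓ cd d ≤ K)
        (le_normalizer_inf h.min.hAK (h.min.toCfg.A_le_normalizer_cd hd)) hsol
      have hu : u ∈ Y := hmax _ (h.pr_of_le_R inf_le_left (h.inv_cd_R hd))
        (inf_le_inf_right _ h.hR.le) ⟨hWR huW, hud⟩
      have hPY : P ⊓ cd d ≤ Y := hmax _ (h.pr_of_le_P inf_le_left (h.inv_cd_P hd))
        (inf_le_inf_right _ h.hP.le)
      have e : Y = Kr := by
        by_contra hYne
        exact hzu (hTW Y hY (htype Y hY hYne) u huW hu z hz)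
      exact le_inf (e ▸ hPY) inf_le_left
    set J := ⁅P, zpowers a⁆ with hJ
    have hJKr : J ≤ Kr ⊓ P :=
      h.min.toCfg.commutator_zpowers_le h.hP.le h.hP.pgroup h.hP.inv ha ha1 hPd
    have hJU : J ≤ centralizer ((⁅W, Za⁆ : Subgroup X) : Set X) := by
      refine h.min.toCfg.commutator_zpowers_le h.hP.le h.hP.pgroup h.hP.inv ha ha1 fun d hd hda x hx => ?_
      refine h.min.centralises_comm hWK (hZaP.trans h.hP.le) (isPGroup_op r Kr) hAW hAZa hZaW hcop ha
        ha1 inf_le_right hd hda (h.hP.le hx.1) hx.2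
        (le_normalizer_op r Kr (hPd d hd hda hx).1) ?_ ?_
      · exact mem_centralizer_iff.mpr fun z hz => (mem_centralizer_iff.mp hz.1.2 x hx.1).symm
      · exact (IsPGroup.coprime_card_of_ne p r h.hne P W h.hP.pgroup (isPGroup_op r Kr)).coprime_dvd_left
          (Subgroup.orderOf_dvd_natCard _ hx.1)
    have hzA : zpowers a ≤ A := zpowers_le.mpr ha
    by_cases hJb : J = ⊥
    · have hP' : P ≤ cd a := by
        have hs := commutator_sup_centralizer (hzA.trans h.hP.inv)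
          (coprime_of_le_left hzA (h.min.toCfg.copA h.hP.le)) (Or.inl inferInstance)
        rw [← hJ, hJb, bot_sup_eq, Cfsg.Lib.Coprime.centralizer_zpowers] at hs
        exact hs.ge.trans inf_le_right
      refine hPKr (le_trans (le_inf (le_inf le_rfl ?_) hP') hle)
      exact h.cd_le_centralizer ha ha1 h.hP.le h.hP.le hP' hP'
    have hJP : J ≤ P := hJKr.trans inf_le_right
    haveI := (h.hP.pgroup.to_le hJP).isNilpotent
    have hAJ : A ≤ normalizer (J : Set X) :=
      le_normalizer_commutator h.hP.inv (fun g hg => mem_normalizer_of_conj_mem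
        (fun x hx => by rwa [h.min.toCfg.comm hg (hzA hx), mul_inv_cancel_right])
        (fun x hx => by rwa [mul_assoc, ← h.min.toCfg.comm hg (hzA hx), inv_mul_cancel_left]))
    obtain ⟨T, hT, hmax⟩ := h.join (inf_le_left : K ⊓ normalizer (J : Set X) ≤ K)
      (le_normalizer_inf h.min.hAK (hAJ.trans le_normalizer))
      (h.min.solvable_inf_normalizer (hJP.trans h.hP.le) hAJ hJb inferInstance)
    have hPT : P ≤ T := hmax P (h.pr_of_le_P le_rfl h.hP.inv)
      (le_inf h.hP.le (le_normalizer_commutator_left _ _))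
    have hT0 : op r T = ⊥ := htype T hT fun e => hPKr (e ▸ hPT)
    have hUW : ⁅W, Za⁆ ≤ W := commutator_le_of_le_normalizer hZaW
    have hUT : ⁅W, Za⁆ ≤ T := hmax _ (h.pr_of_le_R (hUW.trans hWR) (le_normalizer_commutator hAW hAZa))
      (le_inf (hUW.trans hWK) ((le_centralizer_iff.mp hJU).trans (centralizer_le_normalizer J)))
    haveI := (isPGroup_op (X := X) r Kr).isNilpotent
    have hgen := commutator_commutator_eq hZaW hcop (Or.inr inferInstance)
    have hcz : ⁅W, Za⁆ ≤ centralizer (Za : Set X) := fun w hw =>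
      mem_centralizer_iff.mpr fun z hz => hTW T hT hT0 w (hUW hw) (hUT hw) z hz
    rw [commutator_eq_bot_iff_le_centralizer.mpr hcz] at hgen
    exact hnc (commutator_eq_bot_iff_le_centralizer.mp (by rw [commutator_comm]; exact hgen.symm))
  push Not at hi
  obtain ⟨a, ha, ha1, hZane⟩ := h.min.toCfg.exists_line ((zc_le P).trans h.hP.le) hAZP hZP
  set Za := zc P ⊓ cd a with hZa
  have hZaKr : ¬ Za ≤ Kr := hi a ha ha1 hZane
  have hZaP : Za ≤ P := inf_le_left.trans (zc_le P)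
  have hAZa : A ≤ normalizer (Za : Set X) := h.min.toCfg.inv_inf_cd hAZP ha
  have hZaC : ∀ U : Subgroup X, U ≤ P → Za ≤ centralizer (U : Set X) := fun U hU =>
    (inf_le_left.trans (zc_le_centralizer P)).trans (centralizer_le (SetLike.coe_subset_coe.mpr hU))
  obtain ⟨c, Z', hc, hc1, hZR, hZc, hAZ', hZcd, hZne, hclose⟩ : ∃ c : X, ∃ Z' : Subgroup X, c ∈ A ∧
      c ≠ 1 ∧ Z' ≤ R ∧ Z' ≤ centralizer (R : Set X) ∧ A ≤ normalizer (Z' : Set X) ∧ Z' ≤ cd c ∧
      Z' ≠ ⊥ ∧ (Z' ≤ ⁅R, zpowers c⁆ ∨ R ≤ ⁅R, zpowers c⁆ ⊔ Z') := by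
    have hDR : ⁅R, R⁆ ≤ R := commutator_le_of_le_normalizer le_normalizer
    by_cases hD : ⁅R, R⁆ = ⊥
    · obtain ⟨c, hc, hc1, hne⟩ := h.min.toCfg.exists_line h.hR.le h.hR.inv h.R1
      refine ⟨c, R ⊓ cd c, hc, hc1, inf_le_left,
        inf_le_left.trans (commutator_eq_bot_iff_le_centralizer.mp hD), h.inv_cd_R hc, inf_le_right,
        hne, Or.inr ?_⟩
      have hzA : zpowers c ≤ A := zpowers_le.mpr hc
      have hs := commutator_sup_centralizer (hzA.trans h.hR.inv)
        (coprime_of_le_left hzA (h.min.toCfg.copA h.hR.le)) (Or.inl inferInstance)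
      rw [Cfsg.Lib.Coprime.centralizer_zpowers] at hs
      exact hs.ge
    · set Z0 := ⁅R, R⁆ ⊓ centralizer (R : Set X) with hZ0
      have hAZ0 : A ≤ normalizer (Z0 : Set X) :=
        le_normalizer_inf (le_normalizer_commutator h.hR.inv h.hR.inv)
          (le_normalizer_centralizer h.hR.inv)
      obtain ⟨c, hc, hc1, hne⟩ := h.min.toCfg.exists_line (inf_le_left.trans (hDR.trans h.hR.le)) hAZ0
        (center_inter_ne_bot h.hR.pgroup hDR (le_normalizer_commutator le_normalizer le_normalizer) hD)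
      exact ⟨c, Z0 ⊓ cd c, hc, hc1, inf_le_left.trans (inf_le_left.trans hDR),
        inf_le_left.trans inf_le_right, h.min.toCfg.inv_inf_cd hAZ0 hc, inf_le_right, hne,
        Or.inl ((inf_le_left.trans inf_le_left).trans
          (h.min.toCfg.derived_le_commutator_zpowers h.hR.le h.hR.inv hc hc1))⟩
  have hZK : Z' ≤ K := hZR.trans h.hR.le
  have hprZ : PRSub A K p r Z' := h.pr_of_le_R hZR hAZ'
  obtain ⟨T, hT, hT0, hZT⟩ : ∃ T, MaxPR A K p r T ∧ op r T = ⊥ ∧ Z' ≤ T := by
    by_cases hPc : P ⊓ cd c = ⊥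
    · by_cases hRa : R ⊓ cd a = ⊥
      · exfalso
        have hdis : ∀ d ∈ A, d ≠ 1 → R ⊓ cd d ≠ ⊥ → P ⊓ cd d = ⊥ := by
          intro d hd hd1 hRd
          by_contra hPdne
          have hcd : c ∉ zpowers d := fun e => hPdne (by
            rw [← h.min.toCfg.cd_eq hd hd1 e hc1]; exact hPc)
          haveI := (h.hP.pgroup.to_le (inf_le_left : P ⊓ cd d ≤ P)).isNilpotent
          obtain ⟨Y, hY, hmax⟩ := h.join_centralizer (inf_le_left.trans h.hP.le) (h.inv_cd_P hd) hPdne
            inferInstance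
          have hZaY : Za ≤ Y := hmax _ (h.pr_of_le_P hZaP hAZa) (hZaC _ inf_le_left)
          have hY0 : op r Y = ⊥ := htype Y hY fun e => hZaKr (e ▸ hZaY)
          have hRY : R ⊓ cd d ≤ Y := hmax _ (h.pr_of_le_R inf_le_left (h.inv_cd_R hd))
            (h.cd_le_centralizer hd hd1 (inf_le_left.trans h.hR.le) (inf_le_left.trans h.hP.le)
              inf_le_right inf_le_right)
          have hVp : IsPGroup p (op p Y) := isPGroup_op p Y
          have hnc : ¬ R ⊓ cd d ≤ centralizer (op p Y : Set X) := fun e => hRd (le_bot_iff.mp (by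
            rw [← inf_eq_bot_of_ne h.hne.symm (h.hR.pgroup.to_le (inf_le_left : R ⊓ cd d ≤ R)) hVp]
            exact le_inf le_rfl ((le_inf hRY e).trans (h.centralizer_op_le hY.1 hY0))))
          obtain ⟨u, -, huV, huc, hu1, -⟩ := h.min.exists_moved_comm ((op_le Y).trans hY.1.le)
            (inf_le_left.trans h.hR.le) hVp (h.inv_op hY.1) (h.inv_cd_R hd)
            (hRY.trans (le_normalizer_op p Y))
            (IsPGroup.coprime_card_of_ne r p h.hne.symm _ _ (h.hR.pgroup.to_le inf_le_left) hVp)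
            hd hd1 inf_le_right hc hcd hnc
          exact hu1 ((eq_bot_iff_forall _).mp hPc u ⟨h.op_le_P hY.1 huV, huc⟩)
        obtain ⟨f, hf, hf1, hlines⟩ := h.min.lines_odd hr2 h.hR h.R1
        have haf : a ∈ zpowers f := by
          by_contra hne
          exact hlines a ha hne hRa
        have hPa : P ≤ cd a := h.min.toCfg.le_of_lines h.hP.le h.hP.inv fun d hd hd1 => by
          by_cases hda : d ∈ zpowers a
          · exact (h.min.toCfg.cd_eq ha ha1 hda hd1).le |> inf_le_right.trans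
          · rw [hdis d hd hd1 (hlines d hd fun e => hda (by
              rw [h.min.toCfg.zpowers_eq hf hf1 haf ha1]; exact e))]
            exact bot_le
        obtain ⟨f', hf', hf'1, hlines'⟩ := h.min.lines_abelian h.hP h.P1 fun x hx y hy =>
          h.min.toCfg.comm_cd ha ha1 (h.hP.le hx) (h.hP.le hy) (hPa hx) (hPa hy)
        obtain ⟨d, hd, hda, hdf'⟩ := h.min.toCfg.exists_not_mem_pair ha ha1 hf' hf'1
        refine hlines' d hd hdf' (hdis d hd (h.min.toCfg.ne_one_of_not_mem hda) (hlines d hd ?_))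
        rw [← h.min.toCfg.zpowers_eq hf hf1 haf ha1]
        exact hda
      · haveI := (h.hR.pgroup.to_le (inf_le_left : R ⊓ cd a ≤ R)).isNilpotent
        obtain ⟨Y, hY, hmax⟩ := h.join_centralizer (inf_le_left.trans h.hR.le) (h.inv_cd_R ha) hRa
          inferInstance
        have hZaY : Za ≤ Y := hmax _ (h.pr_of_le_P hZaP hAZa)
          (h.cd_le_centralizer ha ha1 (hZaP.trans h.hP.le) (inf_le_left.trans h.hR.le) inf_le_right
            inf_le_right)
        exact ⟨Y, hY, htype Y hY fun e => hZaKr (e ▸ hZaY), hmax _ hprZ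
          (hZc.trans (centralizer_le (SetLike.coe_subset_coe.mpr inf_le_left)))⟩
    · haveI := (h.hP.pgroup.to_le (inf_le_left : P ⊓ cd c ≤ P)).isNilpotent
      obtain ⟨Y, hY, hmax⟩ := h.join_centralizer (inf_le_left.trans h.hP.le) (h.inv_cd_P hc) hPc
        inferInstance
      have hZaY : Za ≤ Y := hmax _ (h.pr_of_le_P hZaP hAZa) (hZaC _ inf_le_left)
      exact ⟨Y, hY, htype Y hY fun e => hZaKr (e ▸ hZaY), hmax _ hprZ
        (h.cd_le_centralizer hc hc1 hZK (inf_le_left.trans h.hP.le) hZcd inf_le_right)⟩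
  set Y0 := sSup ((fun g => (zc P).map (MulAut.conj g).toMonoidHom) '' ↑Z') with hY0
  have hY0V : ∀ T' : Subgroup X, MaxPR A K p r T' → op r T' = ⊥ → Z' ≤ T' →
      Y0 ≤ zc (op p T') := by
    intro T' hT' hT'0 hZT'
    refine sSup_le ?_
    rintro _ ⟨g, hg, rfl⟩
    have h1 : zc P ≤ zc (op p T') := le_inf (h.zc_P_le hT' hT'0)
      ((zc_le_centralizer P).trans (centralizer_le (SetLike.coe_subset_coe.mpr (h.op_le_P hT'.1))))
    exact (conjMap_mono h1).trans
      (conjMap_eq_self (le_normalizer_zc (le_normalizer_op p T') (hZT' hg))).le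
  have hY0p : IsPGroup p Y0 := (isPGroup_op p T).to_le ((hY0V T hT hT0 hZT).trans (zc_le _))
  have hY0K : Y0 ≤ K := ((hY0V T hT hT0 hZT).trans (zc_le _)).trans ((op_le T).trans hT.1.le)
  have hZY0 : Z' ≤ normalizer (Y0 : Set X) := by
    have key : ∀ z ∈ Z', ∀ x ∈ Y0, z * x * z⁻¹ ∈ Y0 := by
      intro z hz
      have hle : Y0 ≤ Y0.comap (MulAut.conj z).toMonoidHom := by
        refine sSup_le ?_
        rintro _ ⟨g, hg, rfl⟩ _ ⟨x, hx, rfl⟩
        refine (le_sSup ⟨z * g, mul_mem hz hg, rfl⟩ :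
          (zc P).map (MulAut.conj (z * g)).toMonoidHom ≤ Y0) ⟨x, hx, by simp [mul_assoc]⟩
      exact fun x hx => hle hx
    exact fun z hz => mem_normalizer_of_conj_mem (key z hz)
      fun x hx => by simpa using key _ (inv_mem hz) x hx
  have hAY0 : A ≤ normalizer (Y0 : Set X) := by
    have key : ∀ b ∈ A, ∀ x ∈ Y0, b * x * b⁻¹ ∈ Y0 := by
      intro b hb
      have hle : Y0 ≤ Y0.comap (MulAut.conj b).toMonoidHom := by
        refine sSup_le ?_
        rintro _ ⟨g, hg, rfl⟩ _ ⟨x, hx, rfl⟩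
        refine (le_sSup ⟨b * g * b⁻¹, (mem_normalizer_iff.mp (hAZ' hb) g).mp hg, rfl⟩ :
          (zc P).map (MulAut.conj (b * g * b⁻¹)).toMonoidHom ≤ Y0)
          ⟨b * x * b⁻¹, (mem_normalizer_iff.mp (hAZP hb) x).mp hx, by simp [mul_assoc]⟩
      exact fun x hx => hle hx
    exact fun b hb => mem_normalizer_of_conj_mem (key b hb)
      fun x hx => by simpa using key _ (inv_mem hb) x hx
  have hzY0 : zc P ≤ Y0 := by
    refine le_sSup ⟨1, one_mem Z', ?_⟩
    show conjMap 1 (zc P) = zc P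
    rw [conjMap_one]
  have hcop : (Nat.card Z').Coprime (Nat.card Y0) :=
    IsPGroup.coprime_card_of_ne r p h.hne.symm Z' Y0 (h.hR.pgroup.to_le hZR) hY0p
  have hnc : ¬ Z' ≤ centralizer (Y0 : Set X) := by
    intro e
    haveI := (h.hR.pgroup.to_le hZR).isNilpotent
    obtain ⟨Y, hY, hmax⟩ := h.join_centralizer hZK hAZ' hZne inferInstance
    have hRY : R ≤ Y := hmax R (h.pr_of_le_R le_rfl h.hR.inv) (le_centralizer_iff.mp hZc)
    refine hZaKr (hRmem Y hY hRY ▸ hmax _ (h.pr_of_le_P hZaP hAZa) ?_)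
    exact inf_le_left.trans (le_centralizer_iff.mp
      (e.trans (centralizer_le (SetLike.coe_subset_coe.mpr hzY0))))
  set U0 := ⁅Y0, Z'⁆ with hU0
  have hU0Y : U0 ≤ Y0 := commutator_le_of_le_normalizer hZY0
  have hU0p : IsPGroup p U0 := hY0p.to_le hU0Y
  have hAU0 : A ≤ normalizer (U0 : Set X) := le_normalizer_commutator hAY0 hAZ'
  have hcop0 : (Nat.card Z').Coprime (Nat.card U0) :=
    hcop.coprime_dvd_right (Subgroup.card_dvd_of_le hU0Y)
  have hZU0 : Z' ≤ normalizer (U0 : Set X) := le_normalizer_commutator_right _ _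
  haveI := hY0p.isNilpotent
  haveI := hU0p.isNilpotent
  have hgen : ⁅U0, Z'⁆ = U0 := commutator_commutator_eq hZY0 hcop (Or.inr inferInstance)
  have hU0ne : U0 ≠ ⊥ := fun e => hnc (commutator_eq_bot_iff_le_centralizer.mp
    (by rw [commutator_comm]; exact e))
  have hU0c : IsMulCommutative U0 := ⟨⟨fun x y => Subtype.ext
    (mem_centralizer_iff.mp (hY0V T hT hT0 hZT (hU0Y y.2)).2 _
      (hY0V T hT hT0 hZT (hU0Y x.2)).1)⟩⟩
  have hU0Kr : U0 ⊓ Kr = ⊥ := by
    refine le_bot_iff.mp ?_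
    rw [← (abelian_coprime_decomp (V := U0) hZU0 hcop0).1, hgen]
    refine le_inf (le_inf inf_le_left ?_) inf_le_left
    intro u hu
    refine mem_centralizer_iff.mpr fun z hz => ?_
    have hzW : z ∈ W := hWc ⟨hRKr (hZR hz), centralizer_le (SetLike.coe_subset_coe.mpr hWR) (hZc hz)⟩
    have hm : ⁅u, z⁆ ∈ U0 ⊓ W := Subgroup.mem_inf.mpr ⟨by
      rw [commutatorElement_def, mul_assoc, mul_assoc, ← mul_assoc z]
      exact mul_mem hu.1 ((mem_normalizer_iff.mp (hZU0 hz) _).mp (inv_mem hu.1)), by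
      rw [commutatorElement_def]
      exact mul_mem ((mem_normalizer_iff.mp (le_normalizer_op r Kr hu.2) _).mp hzW) (inv_mem hzW)⟩
    rw [inf_eq_bot_of_ne h.hne hU0p (isPGroup_op r Kr), mem_bot,
      commutatorElement_eq_one_iff_mul_comm] at hm
    exact hm.symm
  have hS : ⁅R, zpowers c⁆ ≤ centralizer (U0 : Set X) := by
    refine h.min.toCfg.commutator_zpowers_le h.hR.le h.hR.pgroup h.hR.inv hc hc1 fun d hd hdc x hx => ?_
    by_cases hx1 : x = 1
    · rw [hx1]; exact one_mem _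
    have hd1 := h.min.toCfg.ne_one_of_not_mem hdc
    have hRd : R ⊓ cd d ≠ ⊥ := fun e => hx1 ((eq_bot_iff_forall _).mp e x hx)
    obtain ⟨u, huU, huY, hud, hu1, -⟩ := h.min.exists_moved_comm hY0K hZK hY0p hAY0 hAZ' hZY0 hcop
      hc hc1 hZcd hd hdc hnc
    haveI := (h.hR.pgroup.to_le (inf_le_left : R ⊓ cd d ≤ R)).isNilpotent
    obtain ⟨Y, hY, hmax⟩ := h.join_centralizer (inf_le_left.trans h.hR.le) (h.inv_cd_R hd) hRd
      inferInstance
    have hPY : P ⊓ cd d ≤ Y := hmax _ (h.pr_of_le_P inf_le_left (h.inv_cd_P hd))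
      (h.cd_le_centralizer hd hd1 (inf_le_left.trans h.hP.le) (inf_le_left.trans h.hR.le)
        inf_le_right inf_le_right)
    have hZY : Z' ≤ Y := hmax _ hprZ
      (hZc.trans (centralizer_le (SetLike.coe_subset_coe.mpr inf_le_left)))
    have hRY : R ⊓ cd d ≤ Y := hmax _ (h.pr_of_le_R inf_le_left (h.inv_cd_R hd))
      (h.cd_le_centralizer hd hd1 (inf_le_left.trans h.hR.le) (inf_le_left.trans h.hR.le)
        inf_le_right inf_le_right)
    have huP : u ∈ P := h.hP.max Y0 hY0K hY0p hAY0 huY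
    have hY0' : op r Y = ⊥ := htype Y hY fun e =>
      hu1 ((eq_bot_iff_forall _).mp hU0Kr u ⟨huU, e ▸ hPY ⟨huP, hud⟩⟩)
    have hV : Y0 ≤ zc (op p Y) := hY0V Y hY hY0' hZY
    have hVp : IsPGroup p (zc (op p Y)) := (isPGroup_op p Y).to_le (zc_le _)
    have hxc : x ∈ centralizer ((⁅zc (op p Y), Z'⁆ : Subgroup X) : Set X) :=
      h.min.centralises_comm (((zc_le _).trans (op_le Y)).trans hY.1.le) hZK hVp
        (le_normalizer_zc (h.inv_op hY.1)) hAZ'
        (hZY.trans (le_normalizer_zc (le_normalizer_op p Y)))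
        (IsPGroup.coprime_card_of_ne r p h.hne.symm Z' _ (h.hR.pgroup.to_le hZR) hVp) hc hc1 hZcd hd
        hdc (h.hR.le hx.1) hx.2 (le_normalizer_zc (le_normalizer_op p Y) (hRY hx))
        (le_centralizer_iff.mp hZc hx.1)
        ((IsPGroup.coprime_card_of_ne r p h.hne.symm R _ h.hR.pgroup hVp).coprime_dvd_left
          (Subgroup.orderOf_dvd_natCard _ hx.1))
    exact centralizer_le (SetLike.coe_subset_coe.mpr (commutator_mono hV le_rfl)) hxc
  rcases hclose with hcl | hcl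
  · refine hU0ne ?_
    rw [← hgen, commutator_comm, commutator_eq_bot_iff_le_centralizer]
    exact hcl.trans hS
  · obtain ⟨Y, hY, hmax⟩ := h.join (inf_le_left : K ⊓ normalizer (U0 : Set X) ≤ K)
      (le_normalizer_inf h.min.hAK (hAU0.trans le_normalizer))
      (h.min.solvable_inf_normalizer (hU0Y.trans hY0K) hAU0 hU0ne inferInstance)
    have hRY : R ≤ Y := hmax R (h.pr_of_le_R le_rfl h.hR.inv)
      (le_inf h.hR.le (hcl.trans (sup_le (hS.trans (centralizer_le_normalizer _)) hZU0)))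
    have hUY : U0 ≤ Y := hmax U0 (h.pr_of_pgroup (hU0Y.trans hY0K) hU0p hAU0)
      (le_inf (hU0Y.trans hY0K) le_normalizer)
    refine hU0ne (le_bot_iff.mp ?_)
    rw [← hU0Kr]
    exact le_inf le_rfl (hRmem Y hY hRY ▸ hUY)

end Pair

/-- two invariant Sylow subgroups lie in a common proper invariant subgroup -/
theorem Min.exists_join {A K : Subgroup X} {q p r : ℕ} (h : Min A K q) (hp : p.Prime) (hr : r.Prime)
    (hne : p ≠ r) (hr2 : r ≠ 2) {P R : Subgroup X} (hP : InvSyl A K p P) (hR : InvSyl A K r R)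
    (hP1 : P ≠ ⊥) (hR1 : R ≠ ⊥) :
    ∃ H : Subgroup X, H ≤ K ∧ A ≤ normalizer (H : Set X) ∧ Group.IsSolvable H ∧ P ≤ H ∧ R ≤ H := by
  by_contra hcon
  exact Pair.contradiction_aux (A := A) (K := K) (P := P) (R := R)
    ⟨h, hp, hr, hne, hP, hR, hP1, hR1, fun H h1 h2 h3 h4 h5 => hcon ⟨H, h1, h2, h3, h4, h5⟩⟩ hr2

end Cfsg.Lib.AbQSq
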