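/-
Abelian centralisers under a coprime `q × q` action force solubility.
-/
import Cfsg.Agent.Coprime.AbelianQSq.Final
import Cfsg.Agent.S0021
import Mathlib.GroupTheory.SemidirectProduct
import Mathlib.GroupTheory.GroupAction.FixedPoints
import Mathlib.Algebra.Group.Subgroup.Actions

set_option linter.style.haveILetI false
set_option linter.unusedSectionVars false

namespace Cfsg.Lib.AbQSq

open Subgroup Cfsg.Lib.Coprime
open scoped commutatorElement Pointwise

universe u v

variable {X : Type u} [Group X] [Finite X] {A K : Subgroup X} {q : ℕ}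

theorem Cfg.restrict (h : Cfg A K q) {H : Subgroup X} (hH : H ≤ K)
    (hAH : A ≤ normalizer (H : Set X)) : Cfg A H q :=
  ⟨h.hq, h.card, h.noncyc, hAH, h.cop.coprime_dvd_left (Subgroup.card_dvd_of_le hH),
    fun a ha ha1 x hx y hy => h.abel a ha ha1 x (hH hx) y (hH hy)⟩

theorem Cfg.subgroupOf (h : Cfg A K q) {L : Subgroup X} (hAL : A ≤ L) (hKL : K ≤ L) :
    Cfg (A.subgroupOf L) (K.subgroupOf L) q := by
  refine ⟨h.hq, ?_, fun hc => h.noncyc ?_, ?_, ?_, ?_⟩
  · rw [Nat.card_congr (subgroupOfEquivOfLe hAL).toEquiv, h.card]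
  · exact (subgroupOfEquivOfLe hAL).isCyclic.mp hc
  · rw [← subgroupOf_normalizer_eq hKL]
    exact fun x hx => h.hAK hx
  · rw [Nat.card_congr (subgroupOfEquivOfLe hKL).toEquiv]
    exact h.cop
  · intro a ha ha1 x hx y hy hax hay
    exact Subtype.ext (h.abel a ha (fun e => ha1 (Subtype.ext e)) x hx y hy
      (congrArg Subtype.val hax) (congrArg Subtype.val hay))

theorem Min.permute (h : Min A K q) {p r : ℕ} (hp : p.Prime) (hr : r.Prime) (hne : p ≠ r)
    {P R : Subgroup X} (hP : InvSyl A K p P) (hR : InvSyl A K r R) :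
    (P : Set X) * (R : Set X) = (R : Set X) * (P : Set X) := by
  haveI := Fact.mk hp
  haveI := Fact.mk hr
  by_cases hP1 : P = ⊥
  · subst hP1; simp
  by_cases hR1 : R = ⊥
  · subst hR1; simp
  obtain ⟨H, hHK, hAH, hs, hPH, hRH⟩ :
      ∃ H : Subgroup X, H ≤ K ∧ A ≤ normalizer (H : Set X) ∧ Group.IsSolvable H ∧ P ≤ H ∧ R ≤ H := by
    by_cases hr2 : r = 2
    · obtain ⟨H, h1, h2, h3, h4, h5⟩ := h.exists_join hr hp hne.symm (by omega) hR hP hR1 hP1
      exact ⟨H, h1, h2, h3, h5, h4⟩
    · exact h.exists_join hp hr hne hr2 hP hR hP1 hR1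
  obtain ⟨M, hM, hAM, hmax⟩ := h.exists_hall hHK hAH hs {t | t = p ∨ t = r}
  have hPM : P ≤ M := hmax P hPH hP.inv fun t ht hd => Or.inl (primes_of_isPGroup hP.pgroup ht hd)
  have hRM : R ≤ M := hmax R hRH hR.inv fun t ht hd => Or.inr (primes_of_isPGroup hR.pgroup ht hd)
  have hMK : M ≤ K := hM.1.trans hHK
  have hcop : (Nat.card P).Coprime (Nat.card R) :=
    IsPGroup.coprime_card_of_ne p r hne P R hP.pgroup hR.pgroup
  have hcard : Nat.card P * Nat.card R = Nat.card M := by
    refine Nat.dvd_antisymm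
      (hcop.mul_dvd_of_dvd_of_dvd (Subgroup.card_dvd_of_le hPM) (Subgroup.card_dvd_of_le hRM)) ?_
    rw [Nat.dvd_iff_prime_pow_dvd_dvd]
    intro t k ht hk
    haveI := Fact.mk ht
    rcases k with _ | k
    · simp
    rcases hM.2.1 t ht ((dvd_pow_self t k.succ_ne_zero).trans hk) with e | e
    · subst e
      obtain ⟨S, hS⟩ := hP.inf_syl h.toCfg hMK hAM
      rw [inf_eq_left.mpr hPM] at hS
      refine Dvd.dvd.mul_right ?_ _
      rw [← hS, Subgroup.card_map_of_injective M.subtype_injective]
      exact S.pow_dvd_card_of_pow_dvd_card hk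
    · subst e
      obtain ⟨S, hS⟩ := hR.inf_syl h.toCfg hMK hAM
      rw [inf_eq_left.mpr hRM] at hS
      refine Dvd.dvd.mul_left ?_ _
      rw [← hS, Subgroup.card_map_of_injective M.subtype_injective]
      exact S.pow_dvd_card_of_pow_dvd_card hk
  have key : ∀ U W : Subgroup X, U ≤ M → W ≤ M → Nat.card U * Nat.card W = Nat.card M →
      (Nat.card U).Coprime (Nat.card W) → (U : Set X) * (W : Set X) = (M : Set X) := by
    intro U W hU hW hc hcp
    refine Set.Subset.antisymm ?_ fun m hm => ?_
    · rintro _ ⟨a, ha, b, hb, rfl⟩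
      exact mul_mem (hU ha) (hW hb)
    have hcU := Nat.card_congr (subgroupOfEquivOfLe hU).toEquiv
    have hcW := Nat.card_congr (subgroupOfEquivOfLe hW).toEquiv
    have hco : IsComplement' (U.subgroupOf M) (W.subgroupOf M) :=
      isComplement'_of_coprime (by rw [hcU, hcW, hc]) (by rw [hcU, hcW]; exact hcp)
    obtain ⟨⟨a, b⟩, e⟩ := hco.2 ⟨m, hm⟩
    exact ⟨(a.1 : X), a.2, (b.1 : X), b.2, congrArg Subtype.val e⟩
  rw [key P R hPM hRM hcard hcop, key R P hRM hPM (by rw [mul_comm, hcard]) hcop.symm]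

theorem Min.solvable (h : Min A K q) : Group.IsSolvable K := by
  have hex : ∀ t : Nat.Primes, ∃ P : Subgroup X, InvSyl A K (t : ℕ) P := fun t =>
    haveI := Fact.mk t.2
    h.exists_invSyl (t : ℕ)
  choose P hP using hex
  choose S hS using fun t => (hP t).syl
  refine Cfsg.Agent.S0021.result S fun p r => ?_
  by_cases hpr : p = r
  · rw [hpr]
  have hperm := h.permute p.2 r.2 (fun e => hpr (Subtype.ext e)) (hP p) (hP r)
  apply Set.image_injective.mpr K.subtype_injective
  rw [Set.image_mul, Set.image_mul]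
  have e : ∀ t, K.subtype '' (S t : Set K) = (P t : Set X) := fun t => by
    rw [← hS t]; rfl
  rw [e, e]
  exact hperm

theorem solvable_aux (n : ℕ) : ∀ {X : Type u} [Group X] [Finite X] {A K : Subgroup X} {q : ℕ},
    Nat.card K ≤ n → Cfg A K q → Group.IsSolvable K := by
  induction n with
  | zero => intro X _ _ A K q hc; exact absurd hc (by have := Nat.card_pos (α := K); omega)
  | succ n ih =>
    intro X _ _ A K q hc h
    have hsub : ∀ H : Subgroup X, H ≤ K → A ≤ normalizer (H : Set X) → H ≠ K → Group.IsSolvable H := by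
      intro H hH hAH hne
      have hlt : Nat.card H < Nat.card K := lt_of_not_ge fun hle =>
        hne (Subgroup.eq_of_le_of_card_ge hH hle)
      exact ih (by omega) (h.restrict hH hAH)
    by_contra hns
    have hsimple : ∀ N : Subgroup X, N ≤ K → A ≤ normalizer (N : Set X) →
        K ≤ normalizer (N : Set X) → N = ⊥ ∨ N = K := by
      intro N hNK hAN hKN
      by_contra hcon
      rw [not_or] at hcon
      haveI hsN := hsub N hNK hAN hcon.2
      set L := K ⊔ A
      have hKL : K ≤ L := le_sup_left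
      have h' := h.subgroupOf (L := L) le_sup_right hKL
      haveI : (N.subgroupOf L).Normal :=
        (normal_subgroupOf_iff_le_normalizer (hNK.trans hKL)).mpr (sup_le hKN hAN)
      have hNK' : N.subgroupOf L ≤ K.subgroupOf L := fun x hx => hNK hx
      set f := QuotientGroup.mk' (N.subgroupOf L)
      have hlt : Nat.card ((K.subgroupOf L).map f) < Nat.card K := by
        have e1 := card_comap_mk' ((K.subgroupOf L).map f)
        rw [comap_map_eq, QuotientGroup.ker_mk', sup_eq_left.mpr hNK',
          Nat.card_congr (subgroupOfEquivOfLe hKL).toEquiv,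
          Nat.card_congr (subgroupOfEquivOfLe (hNK.trans hKL)).toEquiv] at e1
        rw [e1]
        exact lt_mul_of_one_lt_left Nat.card_pos ((N.one_lt_card_iff_ne_bot).mpr hcon.1)
      haveI := ih (Nat.lt_succ_iff.mp (hlt.trans_le hc)) (h'.quotient_data hNK')
      let g : K →* ((K.subgroupOf L).map f) := (f.subgroupMap (K.subgroupOf L)).comp
        (subgroupOfEquivOfLe hKL).symm.toMonoidHom
      refine hns (Group.isSolvable_of_ker_le_range (Subgroup.inclusion hNK) g fun x hx => ?_)
      have h1 : (⟨(x : X), hKL x.2⟩ : L) ∈ N.subgroupOf L :=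
        (QuotientGroup.eq_one_iff _).mp (congrArg Subtype.val hx :)
      exact ⟨⟨x, h1⟩, rfl⟩
    have hfix : ∀ x ∈ K, (∀ a ∈ A, a * x = x * a) → x = 1 := by
      intro x hx hxA
      have hxc : K ≤ cd x := h.le_of_lines le_rfl h.hAK fun d hd hd1 y hy =>
        mem_cd.mpr (h.comm_cd hd hd1 hy.1 hx hy.2 (mem_cd.mpr (hxA d hd).symm))
      have hxz : x ∈ zc K := ⟨hx, mem_centralizer_iff.mpr fun y hy => mem_cd.mp (hxc hy)⟩
      rcases hsimple (zc K) (zc_le K) (le_normalizer_zc h.hAK) (le_normalizer_zc le_normalizer)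
        with e | e
      · rwa [e, mem_bot] at hxz
      · refine absurd (Group.isSolvable_of_comm fun a b => Subtype.ext ?_) hns
        have hb : (b : X) ∈ zc K := e.ge b.2
        exact mem_centralizer_iff.mp hb.2 (a : X) a.2
    exact hns (Min.solvable ⟨h, hfix, hsub, hsimple, hns⟩)

/-- external form -/
theorem solvable_of_action {A : Type v} {G : Type u} [Group A] [Finite A] [Group G] [Finite G]
    [MulDistribMulAction A G] {q : ℕ} (hq : q.Prime) (hA : Nat.card A = q ^ 2) (hnc : ¬ IsCyclic A)
    (hcop : ¬ q ∣ Nat.card G)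
    (h : ∀ a : A, a ≠ 1 → IsMulCommutative ↥(FixedPoints.subgroup (Subgroup.zpowers a) G)) :
    Group.IsSolvable G := by
  let φ : A →* MulAut G := MulDistribMulAction.toMulAut A G
  let X := SemidirectProduct G A φ
  haveI : Finite X := Finite.of_equiv (G × A) SemidirectProduct.equivProd.symm
  set K := (SemidirectProduct.inl : G →* X).range with hK
  set A' := (SemidirectProduct.inr : A →* X).range with hA'
  haveI hKn : K.Normal := by
    rw [hK, SemidirectProduct.range_inl_eq_ker_rightHom]; infer_instance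
  let eG : G ≃* K := MonoidHom.ofInjective SemidirectProduct.inl_injective
  let eA : A ≃* A' := MonoidHom.ofInjective SemidirectProduct.inr_injective
  have hcfg : Cfg A' K q := by
    refine ⟨hq, by rw [← Nat.card_congr eA.toEquiv, hA], fun hc => hnc (eA.isCyclic.mpr hc),
      le_normalizer_of_normal,
      by rw [← Nat.card_congr eG.toEquiv]; exact ((hq.coprime_iff_not_dvd).mpr hcop).symm, ?_⟩
    rintro _ ⟨a, rfl⟩ ha1 _ ⟨x, rfl⟩ _ ⟨y, rfl⟩ hax hay
    have ha : a ≠ 1 := fun e => ha1 (by rw [e, map_one])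
    have hfix : ∀ z : G, (SemidirectProduct.inr a : X) * SemidirectProduct.inl z
        = SemidirectProduct.inl z * SemidirectProduct.inr a →
        z ∈ FixedPoints.subgroup (Subgroup.zpowers a) G := by
      intro z hz
      have h1 : a • z = z := SemidirectProduct.inl_injective (φ := φ) (by
        show SemidirectProduct.inl (φ a z) = SemidirectProduct.inl z
        rw [SemidirectProduct.inl_aut, map_inv, hz, mul_inv_cancel_right])
      intro b
      exact (Subgroup.zpowers_le.mpr (show a ∈ MulAction.stabilizer A z from h1)) b.2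
    haveI := h a ha
    have hxy : x * y = y * x :=
      congrArg Subtype.val (mul_comm' (⟨x, hfix x hax⟩ : FixedPoints.subgroup (Subgroup.zpowers a) G)
        ⟨y, hfix y hay⟩)
    rw [← map_mul, ← map_mul, hxy]
  haveI := solvable_aux (Nat.card K) le_rfl hcfg
  exact Group.isSolvable_of_isSolvable_injective (f := eG.toMonoidHom) eG.injective

end Cfsg.Lib.AbQSq
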